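import Groth.Agent.CurveFin.Leray

/-!
# The exact sequence of low degree terms of a direct image
-/

set_option autoImplicit false
set_option linter.style.haveILetI false
set_option linter.unusedSectionVars false
set_option backward.isDefEq.respectTransparency false
set_option backward.isDefEq.respectTransparency.types false
set_option maxHeartbeats 1600000

universe u

open CategoryTheory CategoryTheory.Limits AlgebraicGeometry Opposite Abelian

noncomputable section

namespace Groth.Agent.CurveAff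

open Groth.Agent.BcQCalc Groth.Agent.CurveFin.Leray

variable {U Y : Scheme.{u}}

/-- composing in degree zero with a monomorphism is injective -/
theorem hm_injective_zero {F G : EtCoh.Ab Y} (φ : F ⟶ G) [Mono φ] : Function.Injective (hm φ 0) := by
  refine (injective_iff_map_eq_zero _).2 fun x hx => ?_
  obtain ⟨a, rfl⟩ := Ext.homEquiv₀.symm.surjective x
  have hx' : (Ext.homEquiv₀.symm a).comp (Ext.mk₀ φ) (add_zero 0) = 0 := hx
  rw [Ext.homEquiv₀_symm_apply, Ext.mk₀_comp_mk₀, ← Ext.mk₀_zero] at hx'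
  have h := (Ext.mk₀_bijective _ _).1 hx'
  rw [← zero_comp (f := φ), cancel_mono] at h
  rw [Ext.homEquiv₀_symm_apply, h, Ext.mk₀_zero]

/-- vanishing of `H¹` on the source passes to the direct image -/
theorem subsingleton_H_one_push (j : U ⟶ Y) [PreservesFiniteLimits (EtCoh.pull j)] (G : EtCoh.Ab U)
    [Subsingleton (EtCoh.H U G 1)] : Subsingleton (EtCoh.H Y ((EtCoh.push j).obj G) 1) := by
  haveI : (EtCoh.push j).IsRightAdjoint := (EtCoh.pullPushAdj j).isRightAdjoint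
  haveI : PreservesFiniteLimits (EtCoh.push j) := EtFound.push_preservesFiniteLimits j
  let S := embSES G
  have hS : S.ShortExact := embSES_shortExact G
  haveI : Injective S.X₂ := inferInstanceAs (Injective (Injective.under G))
  haveI : Mono S.f := hS.mono_f
  haveI : Injective ((EtCoh.push j).obj S.X₂) := (EtCoh.pullPushAdj j).map_injective S.X₂ inferInstance
  haveI : Mono ((EtCoh.push j).map S.f) := inferInstance
  let π := cokernel.π ((EtCoh.push j).map S.f)
  let Q := ShortComplex.mk ((EtCoh.push j).map S.f) π (cokernel.condition _)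
  have hQ : Q.ShortExact :=
    { exact := ShortComplex.exact_of_g_is_cokernel _ (cokernelIsCokernel _) }
  let c : cokernel ((EtCoh.push j).map S.f) ⟶ (EtCoh.push j).obj S.X₃ :=
    cokernel.desc _ ((EtCoh.push j).map S.g) (by rw [← Functor.map_comp, S.zero, Functor.map_zero])
  haveI : Mono c := by
    have hP : (S.map (EtCoh.push j)).Exact :=
      ((((Functor.preservesFiniteLimits_tfae (EtCoh.push j)).out 3 0 rfl rfl).1 inferInstance) S hS).1
    exact hP.mono_cokernelDesc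
  refine subsingleton_of_forall_eq 0 fun y => ?_
  obtain ⟨z, rfl⟩ := Ext.covariant_sequence_exact₁ _ hQ y (Ext.eq_zero_of_injective _) (rfl : 0 + 1 = 1)
  let w := EtLim.HofPush j S.X₃ 0 (hm c 0 z)
  obtain ⟨v, hv⟩ := Ext.covariant_sequence_exact₃ _ hS w (rfl : 0 + 1 = 1) (Subsingleton.elim (α := EtCoh.H U G 1) _ _)
  obtain ⟨x, rfl⟩ := (HofPush_bijective_zero j S.X₂).2 v
  have hx : hm ((EtCoh.push j).map S.g) 0 x = hm c 0 z := by
    apply (HofPush_bijective_zero j S.X₃).1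
    refine Eq.trans ?_ hv
    exact HofPush_natural j S.g 0 x
  have hz : hm π 0 x = z := by
    apply hm_injective_zero c
    rw [hm_comp, cokernel.π_desc, hx]
  rw [← hz]
  show (x.comp (Ext.mk₀ Q.g) (add_zero 0)).comp hQ.extClass rfl = 0
  rw [Ext.comp_assoc_of_second_deg_zero]
  erw [hQ.comp_extClass]
  exact Ext.comp_zero ..

/-- the exact sequence of low degree terms, when `H²` of the source vanishes -/
theorem exists_fiveTerm (j : U ⟶ Y) [PreservesFiniteLimits (EtCoh.pull j)] (G : EtCoh.Ab U)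
    (h2 : Subsingleton (EtCoh.H U G 2)) :
    ∃ (α : EtCoh.H Y ((EtCoh.push j).obj G) 1 →+ EtCoh.H U G 1)
      (β : EtCoh.H U G 1 →+ EtCoh.H Y ((EtCoh.Rpush j 1).obj G) 0)
      (γ : EtCoh.H Y ((EtCoh.Rpush j 1).obj G) 0 →+ EtCoh.H Y ((EtCoh.push j).obj G) 2),
      Function.Injective α ∧ (∀ z, β z = 0 ↔ ∃ a, α a = z) ∧ (∀ r, γ r = 0 ↔ ∃ z, β z = r) ∧
        Function.Surjective γ := by
  haveI : (EtCoh.push j).IsRightAdjoint := (EtCoh.pullPushAdj j).isRightAdjoint
  let R₀ := (EtCoh.push j).rightDerivedZeroIsoSelf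
  let S := embSES G
  have hS : S.ShortExact := embSES_shortExact G
  haveI : Injective S.X₂ := inferInstanceAs (Injective (Injective.under G))
  haveI : Mono S.f := hS.mono_f
  haveI : Injective ((EtCoh.push j).obj S.X₂) := (EtCoh.pullPushAdj j).map_injective S.X₂ inferInstance
  let T := SESResLib.derivedLES (EtCoh.push j)
  have hI : IsZero ((EtCoh.Rpush j 1).obj S.X₂) :=
    (EtCoh.push j).isZero_rightDerived_obj_injective_succ 0 S.X₂
  let δ₀ := T.δ S hS 0 1 rfl
  let d : (EtCoh.push j).obj S.X₃ ⟶ (EtCoh.Rpush j 1).obj G := R₀.inv.app S.X₃ ≫ δ₀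
  haveI : Epi δ₀ := (T.exact₁ S hS 0 1 rfl).epi_f (hI.eq_of_tgt _ _)
  haveI : Epi d := epi_comp _ _
  let Kd := ShortComplex.mk (kernel.ι d) d (kernel.condition d)
  have hKd : Kd.ShortExact := { exact := ShortComplex.exact_of_f_is_kernel _ (kernelIsKernel d) }
  let P := S.map (EtCoh.push j)
  haveI : PreservesFiniteLimits (EtCoh.push j) := EtFound.push_preservesFiniteLimits j
  have hP : P.Exact :=
    ((((Functor.preservesFiniteLimits_tfae (EtCoh.push j)).out 3 0 rfl rfl).1 inferInstance) S hS).1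
  haveI : Mono P.f := inferInstanceAs (Mono ((EtCoh.push j).map S.f))
  have hgd : (EtCoh.push j).map S.g ≫ d = 0 := by
    show _ ≫ R₀.inv.app S.X₃ ≫ δ₀ = 0
    rw [← Category.assoc, R₀.inv.naturality, Category.assoc, T.comp_δ S hS 0 1 rfl, comp_zero]
  have hQd : (ShortComplex.mk ((EtCoh.push j).map S.g) d hgd).Exact := by
    refine (ShortComplex.exact_iff_of_iso ?_).1 (T.exact₃ S hS 0 1 rfl)
    refine ShortComplex.isoMk (R₀.app S.X₂) (R₀.app S.X₃) (Iso.refl _) (R₀.hom.naturality S.g).symm ?_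
    show R₀.hom.app S.X₃ ≫ R₀.inv.app S.X₃ ≫ δ₀ = δ₀ ≫ 𝟙 _
    rw [Iso.hom_inv_id_app_assoc, Category.comp_id]
  let π : (EtCoh.push j).obj S.X₂ ⟶ kernel d := kernel.lift d ((EtCoh.push j).map S.g) hgd
  haveI : Epi π := hQd.epi_kernelLift
  have hπ0 : (EtCoh.push j).map S.f ≫ π = 0 := by
    rw [← cancel_mono (kernel.ι d), Category.assoc, kernel.lift_ι, zero_comp, ← Functor.map_comp, S.zero,
      Functor.map_zero]
  let Q := ShortComplex.mk ((EtCoh.push j).map S.f) π hπ0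
  have hQ : Q.ShortExact :=
    { exact := by
        let φ : Q ⟶ P :=
          { τ₁ := 𝟙 _, τ₂ := 𝟙 _, τ₃ := kernel.ι d,
            comm₁₂ := by simp [Q, P], comm₂₃ := by simp [Q, P, π] }
        exact (ShortComplex.exact_iff_of_epi_of_isIso_of_mono φ).2 hP
      mono_f := inferInstance
      epi_g := inferInstance }
  -- the three maps out of degree zero
  let Φ : EtCoh.H Y ((EtCoh.push j).obj S.X₃) 0 →+ EtCoh.H U G 1 :=
    (hS.extClass.postcomp _ (rfl : 0 + 1 = 1)).comp (EtLim.HofPush j S.X₃ 0)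
  let bd : EtCoh.H Y (kernel d) 0 →+ EtCoh.H Y ((EtCoh.push j).obj G) 1 :=
    hQ.extClass.postcomp _ (rfl : 0 + 1 = 1)
  let D := hm d 0
  let ι := hm (kernel.ι d) 0
  have hΦs : Function.Surjective Φ := fun z => by
    obtain ⟨y, hy⟩ := Ext.covariant_sequence_exact₁ _ hS z (Ext.eq_zero_of_injective _) (rfl : 0 + 1 = 1)
    obtain ⟨x, rfl⟩ := (HofPush_bijective_zero j S.X₃).2 y
    exact ⟨x, hy⟩
  have hΦg : ∀ x, Φ (hm ((EtCoh.push j).map S.g) 0 x) = 0 := fun x => by
    show (EtLim.HofPush j S.X₃ 0 (x.comp (Ext.mk₀ ((EtCoh.push j).map S.g)) (add_zero 0))).comp hS.extClass rfl = 0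
    rw [HofPush_natural j S.g 0 x, Ext.comp_assoc_of_second_deg_zero]
    erw [hS.comp_extClass]
    exact Ext.comp_zero ..
  have hΦk : ∀ b, Φ b = 0 → ∃ x, hm ((EtCoh.push j).map S.g) 0 x = b := fun b hb => by
    obtain ⟨v, hv⟩ := Ext.covariant_sequence_exact₃ _ hS (EtLim.HofPush j S.X₃ 0 b) (rfl : 0 + 1 = 1) hb
    obtain ⟨x, rfl⟩ := (HofPush_bijective_zero j S.X₂).2 v
    refine ⟨x, (HofPush_bijective_zero j S.X₃).1 ?_⟩
    refine Eq.trans ?_ hv
    exact HofPush_natural j S.g 0 x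
  have hbds : Function.Surjective bd := fun z =>
    Ext.covariant_sequence_exact₁ _ hQ z (Ext.eq_zero_of_injective _) (rfl : 0 + 1 = 1)
  have hbdk : ∀ c, bd c = 0 ↔ ∃ x, hm π 0 x = c := fun c => by
    constructor
    · exact fun hc => Ext.covariant_sequence_exact₃ _ hQ c rfl hc
    · rintro ⟨x, rfl⟩
      show (x.comp (Ext.mk₀ Q.g) (add_zero 0)).comp hQ.extClass rfl = 0
      rw [Ext.comp_assoc_of_second_deg_zero]
      erw [hQ.comp_extClass]
      exact Ext.comp_zero ..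
  have hιπ : ∀ x, ι (hm π 0 x) = hm ((EtCoh.push j).map S.g) 0 x := fun x => by
    rw [hm_comp, kernel.lift_ι]
  have hDι : ∀ c, D (ι c) = 0 := fun c => by
    rw [hm_comp, kernel.condition]
    show c.comp (Ext.mk₀ 0) (add_zero 0) = 0
    rw [Ext.mk₀_zero, Ext.comp_zero]
  have hDk : ∀ b, D b = 0 → ∃ c, ι c = b := fun b hb => Ext.covariant_sequence_exact₂ _ hKd b hb
  have hιinj : Function.Injective ι := hm_injective_zero _
  let α : EtCoh.H Y ((EtCoh.push j).obj G) 1 →+ EtCoh.H U G 1 :=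
    bd.liftOfSurjective hbds ⟨Φ.comp ι, fun c hc => by
      obtain ⟨x, rfl⟩ := (hbdk c).1 hc
      rw [AddMonoidHom.mem_ker, AddMonoidHom.comp_apply, hιπ, hΦg]⟩
  have hα : ∀ c, α (bd c) = Φ (ι c) := fun c => AddMonoidHom.liftOfRightInverse_comp_apply _ _ _ _ _
  let β : EtCoh.H U G 1 →+ EtCoh.H Y ((EtCoh.Rpush j 1).obj G) 0 :=
    Φ.liftOfSurjective hΦs ⟨D, fun b hb => by
      obtain ⟨x, rfl⟩ := hΦk b hb
      rw [AddMonoidHom.mem_ker, ← hιπ, hDι]⟩
  have hβ : ∀ b, β (Φ b) = D b := fun b => AddMonoidHom.liftOfRightInverse_comp_apply _ _ _ _ _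
  let σ : EtCoh.H Y ((EtCoh.Rpush j 1).obj G) 0 →+ EtCoh.H Y (kernel d) 1 :=
    hKd.extClass.postcomp _ (rfl : 0 + 1 = 1)
  let τ : EtCoh.H Y (kernel d) 1 →+ EtCoh.H Y ((EtCoh.push j).obj G) 2 :=
    hQ.extClass.postcomp _ (rfl : 1 + 1 = 2)
  haveI : Subsingleton (EtCoh.H U S.X₃ 1) := subsingleton_of_forall_eq 0 fun y => by
    obtain ⟨b, rfl⟩ := Ext.covariant_sequence_exact₃ _ hS y (rfl : 1 + 1 = 2) (h2.elim _ _)
    rw [Ext.eq_zero_of_injective b, Ext.zero_comp]
  haveI := subsingleton_H_one_push j S.X₃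
  have hσs : Function.Surjective σ := fun y =>
    Ext.covariant_sequence_exact₁ _ hKd y
      (Subsingleton.elim (α := EtCoh.H Y ((EtCoh.push j).obj S.X₃) 1) _ _) (rfl : 0 + 1 = 1)
  have hτi : Function.Injective τ := (injective_iff_map_eq_zero _).2 fun c hc => by
    obtain ⟨b, rfl⟩ := Ext.covariant_sequence_exact₃ _ hQ c (rfl : 1 + 1 = 2) hc
    rw [Ext.eq_zero_of_injective b, Ext.zero_comp]
  have hτs : Function.Surjective τ := fun z =>
    Ext.covariant_sequence_exact₁ _ hQ z (Ext.eq_zero_of_injective _) (rfl : 1 + 1 = 2)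
  refine ⟨α, β, τ.comp σ, (injective_iff_map_eq_zero _).2 fun a ha => ?_, fun z => ⟨fun hz => ?_, ?_⟩,
    fun r => ⟨fun hr => ?_, ?_⟩, hτs.comp hσs⟩
  · obtain ⟨c, rfl⟩ := hbds a
    rw [hα] at ha
    obtain ⟨x, hx⟩ := hΦk _ ha
    exact (hbdk c).2 ⟨x, hιinj (by rw [hιπ, hx])⟩
  · obtain ⟨b, rfl⟩ := hΦs z
    rw [hβ] at hz
    obtain ⟨c, rfl⟩ := hDk b hz
    exact ⟨bd c, hα c⟩
  · rintro ⟨a, rfl⟩
    obtain ⟨c, rfl⟩ := hbds a
    rw [hα, hβ, hDι]
  · have h1 : σ r = 0 := hτi (by rw [map_zero]; exact hr)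
    obtain ⟨b, hb⟩ := Ext.covariant_sequence_exact₃ _ hKd r (rfl : 0 + 1 = 1) h1
    exact ⟨Φ b, (hβ b).trans hb⟩
  · rintro ⟨z, rfl⟩
    obtain ⟨b, rfl⟩ := hΦs z
    rw [hβ, AddMonoidHom.comp_apply]
    have h1 : σ (D b) = 0 := by
      show (b.comp (Ext.mk₀ Kd.g) (add_zero 0)).comp hKd.extClass rfl = 0
      rw [Ext.comp_assoc_of_second_deg_zero]
      erw [hKd.comp_extClass]
      exact Ext.comp_zero ..
    rw [h1, map_zero]

end Groth.Agent.CurveAff

end
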