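import Groth.Agent.CurveAff.RTwo
import Groth.Agent.CurveFin.Leray
import Groth.Agent.CurveCd.ClosedAcyclic
import Groth.Agent.PBCThm.Top
import Groth.Agent.CurveFin.Open
import Groth.Agent.H4Val.Refined
import Groth.Agent.S14449

/-!
# Restriction of second cohomology to an open of a curve
-/

set_option autoImplicit false
set_option linter.style.haveILetI false
set_option linter.unusedSectionVars false
set_option backward.isDefEq.respectTransparency false
set_option backward.isDefEq.respectTransparency.types false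
set_option maxHeartbeats 1600000
set_option synthInstance.maxHeartbeats 200000

universe u

open CategoryTheory CategoryTheory.Limits AlgebraicGeometry Opposite Abelian TopologicalSpace

noncomputable section

namespace Groth.Agent.CurveAff

open Groth.Agent.EtFound Groth.Agent.BcQCalc Groth.Agent.CurveFin.Leray

attribute [local instance] EtFound.pull_preservesFiniteLimits

variable {U Y : Scheme.{u}}

/-- the last map of the Leray filtration in degree two is surjective -/
theorem surjective_HofPush_two (j : U ⟶ Y) [PreservesFiniteLimits (EtCoh.pull j)] (G : EtCoh.Ab U)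
    (h1 : Subsingleton (EtCoh.H Y ((EtCoh.Rpush j 1).obj G) 1)) (h2 : IsZero ((EtCoh.Rpush j 2).obj G)) :
    Function.Surjective (EtLim.HofPush j G 2) := by
  haveI : (EtCoh.push j).IsRightAdjoint := (EtCoh.pullPushAdj j).isRightAdjoint
  haveI : (EtCoh.pull j).Additive := (EtCoh.pullPushAdj j).left_adjoint_additive
  let R₀ := (EtCoh.push j).rightDerivedZeroIsoSelf
  let S := embSES G
  have hS : S.ShortExact := embSES_shortExact G
  haveI : Injective S.X₂ := inferInstanceAs (Injective (Injective.under G))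
  haveI : Mono S.f := hS.mono_f
  let T := SESResLib.derivedLES (EtCoh.push j)
  have hI : ∀ i, IsZero ((EtCoh.Rpush j (i + 1)).obj S.X₂) := fun i =>
    (EtCoh.push j).isZero_rightDerived_obj_injective_succ i S.X₂
  let δ₀ := T.δ S hS 0 1 rfl
  let d : (EtCoh.push j).obj S.X₃ ⟶ (EtCoh.Rpush j 1).obj G := R₀.inv.app S.X₃ ≫ δ₀
  haveI : Epi δ₀ := (T.exact₁ S hS 0 1 rfl).epi_f ((hI 0).eq_of_tgt _ _)
  haveI : Epi d := epi_comp _ _
  let Kd := ShortComplex.mk (kernel.ι d) d (kernel.condition d)
  have hKd : Kd.ShortExact := { exact := ShortComplex.exact_of_f_is_kernel _ (kernelIsKernel d) }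
  let P := S.map (EtCoh.push j)
  haveI : PreservesFiniteLimits (EtCoh.push j) := EtFound.push_preservesFiniteLimits j
  have hP : P.Exact :=
    ((((Functor.preservesFiniteLimits_tfae (EtCoh.push j)).out 3 0 rfl rfl).1 inferInstance) S hS).1
  haveI : Mono P.f := inferInstanceAs (Mono ((EtCoh.push j).map S.f))
  have hgd : (EtCoh.push j).map S.g ≫ d = 0 := by
    show _ ≫ R₀.inv.app S.X₃ ≫ δ₀ = 0
    rw [← Category.assoc, R₀.inv.naturality, Category.assoc, T.comp_δ S hS 0 1 rfl, comp_zero]
  have hQd : (ShortComplex.mk ((EtCoh.push j).map S.g) d hgd).Exact := by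
    refine (ShortComplex.exact_iff_of_iso ?_).1 (T.exact₃ S hS 0 1 rfl)
    refine ShortComplex.isoMk (R₀.app S.X₂) (R₀.app S.X₃) (Iso.refl _) (R₀.hom.naturality S.g).symm ?_
    show R₀.hom.app S.X₃ ≫ R₀.inv.app S.X₃ ≫ δ₀ = δ₀ ≫ 𝟙 _
    rw [Iso.hom_inv_id_app_assoc, Category.comp_id]
  let π : (EtCoh.push j).obj S.X₂ ⟶ kernel d := kernel.lift d ((EtCoh.push j).map S.g) hgd
  haveI : Epi π := hQd.epi_kernelLift
  have hπ0 : (EtCoh.push j).map S.f ≫ π = 0 := by
    rw [← cancel_mono (kernel.ι d), Category.assoc, kernel.lift_ι, zero_comp, ← Functor.map_comp, S.zero,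
      Functor.map_zero]
  let Q := ShortComplex.mk ((EtCoh.push j).map S.f) π hπ0
  have hQ : Q.ShortExact :=
    { exact := by
        let φ : Q ⟶ P :=
          { τ₁ := 𝟙 _, τ₂ := 𝟙 _, τ₃ := kernel.ι d,
            comm₁₂ := by simp [Q, P], comm₂₃ := by simp [Q, P, π] }
        exact (ShortComplex.exact_iff_of_epi_of_isIso_of_mono φ).2 hP
      mono_f := inferInstance
      epi_g := inferInstance }
  let adj := EtCoh.pullPushAdj j
  let τ : Q.map (EtCoh.pull j) ⟶ S :=
    { τ₁ := adj.counit.app S.X₁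
      τ₂ := adj.counit.app S.X₂
      τ₃ := (adj.homEquiv _ _).symm (kernel.ι d)
      comm₁₂ := (adj.counit.naturality S.f).symm
      comm₂₃ := by
        show adj.counit.app S.X₂ ≫ S.g = (EtCoh.pull j).map π ≫ (adj.homEquiv _ _).symm (kernel.ι d)
        rw [← Adjunction.homEquiv_naturality_left_symm, kernel.lift_ι, Adjunction.homEquiv_counit]
        exact (adj.counit.naturality S.g).symm }
  have hC1 : IsZero ((EtCoh.Rpush j 1).obj S.X₃) :=
    (T.exact₃ S hS 1 2 rfl).isZero_X₂ ((hI 0).eq_of_src _ _) (h2.eq_of_tgt _ _)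
  intro z
  obtain ⟨w, hw⟩ := Ext.covariant_sequence_exact₁ _ hS z (Ext.eq_zero_of_injective _) (rfl : 1 + 1 = 2)
  obtain ⟨c, hc⟩ := EtAcycLib.UnitRpush.HofPush_surjective j 1 S.X₃ (fun i hi => by
    rw [show i = 0 by omega]
    exact hC1) w
  obtain ⟨c', hc'⟩ := Ext.covariant_sequence_exact₂ _ hKd c
    (Subsingleton.elim (α := EtCoh.H Y ((EtCoh.Rpush j 1).obj G) 1) _ _)
  refine ⟨c'.comp hQ.extClass (rfl : 1 + 1 = 2), ?_⟩
  refine (EtLim8.HpullThen_extClass j hQ hS τ 1 c').trans ?_
  refine Eq.trans ?_ hw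
  refine congrArg (fun r => Ext.comp r hS.extClass (rfl : 1 + 1 = 2)) ?_
  refine (HpullThen_transpose (F := S.X₃) j (kernel.ι d) 1 c').trans ?_
  rw [← hc]
  exact congrArg (EtLim.HofPush j S.X₃ 1) hc'

/-- higher direct images along an open immersion vanish on the open and away from its closure -/
theorem isZero_stalk_Rpush_open [IsLocallyNoetherian Y] (j : U ⟶ Y) [IsOpenImmersion j] [QuasiCompact j]
    (G : EtCoh.Ab U) (b : ℕ) {Ω : Type u} [Field Ω] [IsSepClosed Ω] (ξ : Spec (CommRingCat.of Ω) ⟶ Y)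
    (hξ : (0 < b ∧ ξ.base (default : Spec (CommRingCat.of Ω)) ∈ Set.range j.base) ∨
      ξ.base (default : Spec (CommRingCat.of Ω)) ∉ closure (Set.range j.base)) :
    IsZero ((EtCoh.stalk ξ).obj ((EtCoh.Rpush j b).obj G)) := by
  haveI : QuasiSeparated j := inferInstance
  let y := ξ.base (default : Spec (CommRingCat.of Ω))
  obtain ⟨R, _, _, _, _, hR⟩ := BcQCalc.exists_strictHens (Y.presheaf.stalk y)
  haveI := hR
  haveI : HenselianLocalRing R := _root_.Hensel.IsStrictHenselization.henselian (R := Y.presheaf.stalk y)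
  haveI : IsSepClosed (IsLocalRing.ResidueField R) :=
    (_root_.Hensel.IsStrictHenselization.isSepClosure (R := Y.presheaf.stalk y) (S := R)).sep_closed
  let h := Hens2.specOf Y y R
  obtain ⟨e⟩ := RpushStalk.nonempty_stalk_natIso j y R b
  have hgeo : (Hens2.geomPt Y y R).base (default : Spec (CommRingCat.of (IsLocalRing.ResidueField R))) = y := by
    show (Spec.map (CommRingCat.ofHom (IsLocalRing.residue R)) ≫ Hens2.specOf Y y R).base default = y
    rw [Scheme.Hom.comp_apply]
    exact (congrArg (Hens2.specOf Y y R) (EtFound.cpt_base R _)).trans (LocAcycLib.specOf_closedPoint Y y R)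
  obtain ⟨se⟩ := nonempty_stalk_addEquiv ((EtCoh.Rpush j b).obj G) ξ (Hens2.geomPt Y y R) hgeo.symm
  let G' := (EtCoh.pull (pullback.fst j h)).obj G
  suffices hH : Subsingleton (EtCoh.H (pullback j h) G' b) from
    @AddCommGrpCat.isZero_of_subsingleton _
      (@Equiv.subsingleton _ _ (se.trans (e.app G).addCommGroupIsoToAddEquiv).toEquiv hH)
  let p : pullback j h ⟶ Spec (CommRingCat.of R) := pullback.snd j h
  haveI : IsOpenImmersion p := inferInstanceAs (IsOpenImmersion (pullback.snd j h))
  have hrange : ∀ z : Spec (CommRingCat.of R), z ∈ Set.range p.base ↔ h z ∈ Set.range j.base := by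
    intro z
    rw [Scheme.Pullback.range_snd]
    rfl
  have hclosed : h (IsLocalRing.closedPoint R) = y := LocAcycLib.specOf_closedPoint Y y R
  rcases hξ with ⟨hb, hy⟩ | hy
  · haveI : Surjective p := ⟨fun z => by
      refine (hrange z).2 ((IsLocalRing.specializes_closedPoint (R := R) z).map h.continuous |>.mem_open
        j.isOpenEmbedding.isOpen_range (hclosed.symm ▸ hy))⟩
    haveI : IsIso p := (isIso_iff_isOpenImmersion_and_surjective _).2 ⟨inferInstance, inferInstance⟩
    haveI := S0073.result R ((EtCoh.pull (inv p)).obj G') b hb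
    exact (EtAcycLib.bijective_Hpull_of_isIso (inv p) G' b).1.subsingleton
  · haveI : IsEmpty ↥(pullback j h) := ⟨fun t => hy (by
      have h1 : h (p t) ⤳ y := hclosed ▸ (IsLocalRing.specializes_closedPoint (R := R) (p t)).map h.continuous
      exact h1.mem_closed isClosed_closure (subset_closure ((hrange (p t)).1 ⟨t, rfl⟩)))⟩
    exact EtCdp5.subsingleton_H_of_isZero (EtCdp5.isZero_of_isEmpty _) b

/-- restriction to an open of a curve is surjective on second cohomology -/
theorem surjective_Hpull_two (k : Type u) [Field k] [IsSepClosed k] (X : Scheme.{u})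
    (f : X ⟶ Spec (CommRingCat.of k)) [LocallyOfFiniteType f] [QuasiCompact f]
    (hdim : topologicalKrullDim X ≤ 1) (F : EtCoh.Ab X) (hF : EtCoh.IsTorsion F) (U : X.Opens)
    [PreservesFiniteLimits (EtCoh.pull U.ι)] :
    Function.Surjective (EtCore.Hpull U.ι F 2) := by
  haveI : IsLocallyNoetherian X := LocallyOfFiniteType.isLocallyNoetherian f
  haveI : CompactSpace X := QuasiCompact.compactSpace_of_compactSpace f
  haveI : IsNoetherian X := {}
  let j : (U : Scheme.{u}) ⟶ X := U.ι
  haveI : QuasiCompact j := inferInstance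
  haveI : (EtCoh.push j).IsRightAdjoint := (EtCoh.pullPushAdj j).isRightAdjoint
  let G := (EtCoh.pull j).obj F
  have hG : EtCoh.IsTorsion G := H9Transfer.isTorsion_pull j F hF
  have hsep : ∀ x : X, IsClosed ({x} : Set X) → IsSepClosed (X.residueField x) := fun x hx =>
    CurveCd.isSepClosed_residueField_of_isClosed k f hx
  -- points of the closure outside the open are closed
  have hbd : ∀ x ∈ closure (U : Set X), x ∉ U → IsClosed ({x} : Set X) := fun x hx hxU => by
    obtain ⟨z, hzU, hzx⟩ : ∃ z ∈ U, z ⤳ x := by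
      obtain ⟨z, hz⟩ := H4Val.exists_specializes_of_mem_closure j x (by rw [Scheme.Opens.range_ι]; exact hx)
      exact ⟨j z, z.2, hz⟩
    exact (FieldCd.isClosed_of_specializes_of_dim_le_one hdim hzx fun e => hxU (e ▸ hzU)).1
  -- stalks away from the closure
  have hout : ∀ (H : EtCoh.Ab (U : Scheme.{u})) (b : ℕ) (Ω : Type u) [Field Ω] [IsSepClosed Ω]
      (ξ : Spec (CommRingCat.of Ω) ⟶ X), ξ.base (default : Spec (CommRingCat.of Ω)) ∉ closure (U : Set X) →
      IsZero ((EtCoh.stalk ξ).obj ((EtCoh.Rpush j b).obj H)) := fun H b Ω _ _ ξ hξ =>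
    isZero_stalk_Rpush_open j H b ξ (Or.inr (by rwa [Scheme.Opens.range_ι]))
  have hR1 : Subsingleton (EtCoh.H X ((EtCoh.Rpush j 1).obj G) 1) := by
    refine CurveCd.ClosedAcyclic.subsingleton_H _ hsep (fun x hx => ?_) 0
    obtain ⟨Ω, _, _, ξ, hr, hne⟩ := hx
    rw [range_point, Set.singleton_eq_singleton_iff] at hr
    subst hr
    refine hbd _ (by_contra fun h' => hne (hout G 1 Ω ξ h')) fun h' => hne ?_
    exact isZero_stalk_Rpush_open j G 1 ξ (Or.inl ⟨one_pos, by rw [Scheme.Opens.range_ι]; exact h'⟩)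
  have hsurj : Function.Surjective (EtLim.HofPush j G 2) :=
    surjective_HofPush_two j G hR1 (isZero_Rpush_two k f hdim j G hG 2 le_rfl)
  -- the unit
  let η : F ⟶ (EtCoh.push j).obj G := (EtCoh.pullPushAdj j).unit.app F
  let S1 := ShortComplex.mk (kernel.ι η) (Abelian.coimage.π η) (cokernel.condition _)
  have hS1 : S1.ShortExact := { exact := ShortComplex.exact_of_g_is_cokernel _ (cokernelIsCokernel _) }
  let m : Abelian.coimage η ⟶ (EtCoh.push j).obj G := Abelian.factorThruCoimage η
  let S2 := ShortComplex.mk m (cokernel.π m) (cokernel.condition _)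
  have hS2 : S2.ShortExact := { exact := ShortComplex.exact_of_g_is_cokernel _ (cokernelIsCokernel _) }
  have hK : Subsingleton (EtCoh.H X (kernel η) 3) :=
    CurveCd.cohDimLE_two k X f hdim _ (PBCThm.isTorsion_of_mono (kernel.ι η) hF) 3 (by omega)
  have hC : Subsingleton (EtCoh.H X (cokernel m) 2) := by
    refine CurveCd.ClosedAcyclic.subsingleton_H _ hsep (fun x hx => ?_) 1
    obtain ⟨Ω, _, _, ξ, hr, hne⟩ := hx
    rw [range_point, Set.singleton_eq_singleton_iff] at hr
    subst hr
    haveI : Epi ((EtCoh.stalk ξ).map (cokernel.π m)) :=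
      (AddCommGrpCat.epi_iff_surjective _).2 ((epi_iff_stalks (cokernel.π m)).1 inferInstance Ω ξ)
    refine hbd _ (by_contra fun h' => hne ?_) fun h' => hne ?_
    · refine IsZero.of_epi ((EtCoh.stalk ξ).map (cokernel.π m)) ?_
      exact ((hout G 0 Ω ξ h').of_iso ((EtCoh.stalk ξ).mapIso ((EtCoh.push j).rightDerivedZeroIsoSelf.app G)).symm)
    · haveI : IsIso ((EtCoh.stalk ξ).map η) := S14449.isIso_stalk_unit_open j F ξ (by rw [Scheme.Opens.range_ι]; exact h')
      haveI : Epi ((EtCoh.stalk ξ).map m) := by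
        refine epi_of_epi_fac (f := (EtCoh.stalk ξ).map (Abelian.coimage.π η)) (h := (EtCoh.stalk ξ).map η) ?_
        rw [← Functor.map_comp, Abelian.coimage.fac]
      refine IsZero.of_epi_eq_zero ((EtCoh.stalk ξ).map (cokernel.π m)) ?_
      rw [← cancel_epi ((EtCoh.stalk ξ).map m), comp_zero, ← Functor.map_comp, cokernel.condition, Functor.map_zero]
  intro z
  obtain ⟨y, rfl⟩ := hsurj z
  obtain ⟨a, ha⟩ := Ext.covariant_sequence_exact₂ _ hS2 y
    (Subsingleton.elim (α := EtCoh.H X (cokernel m) 2) _ _)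
  obtain ⟨x, hx⟩ := Ext.covariant_sequence_exact₃ _ hS1 a (rfl : 2 + 1 = 3) (hK.elim _ _)
  refine ⟨x, (EtAcycLib.UnitRpush.Hpull_eq_HofPush j F 2 x).trans (congrArg (EtLim.HofPush j G 2) ?_)⟩
  show hm η 2 x = y
  rw [← ha, ← hx]
  show hm η 2 x = hm m 2 (hm (Abelian.coimage.π η) 2 x)
  rw [hm_comp, show Abelian.coimage.π η ≫ m = η from Abelian.coimage.fac η]

end Groth.Agent.CurveAff

end
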