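import Mathlib.Algebra.Module.ZMod
import Mathlib.Algebra.Module.Projective
import Mathlib.LinearAlgebra.FreeModule.Basic
import Mathlib.LinearAlgebra.Pi
import Mathlib.LinearAlgebra.StdBasis
import Mathlib.RingTheory.Finiteness.Projective
import Mathlib.Data.ZMod.Basic
import Mathlib.RingTheory.LocalRing.Module
import Mathlib.RingTheory.Artinian.Module
import Mathlib.LinearAlgebra.TensorProduct.Prod

/-!
# Extensions of free `ℤ/n`-groups
-/

set_option autoImplicit false

universe v

noncomputable section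

namespace Groth.Agent.CurveAff

/-- auxiliary form of the next lemma -/
theorem nonempty_equiv_of_extension_aux {n a c : ℕ} [NeZero n] {A B C : Type v} [AddCommGroup A] [AddCommGroup B]
    [AddCommGroup C] [Module (ZMod n) B] (f : A →+ B) (g : B →+ C) (hf : Function.Injective f) (hg : Function.Surjective g)
    (hex : ∀ b, g b = 0 ↔ ∃ x, f x = b) (eA : A ≃+ (Fin a → ZMod n)) (eC : C ≃+ (Fin c → ZMod n)) :
    Nonempty (B ≃+ (Fin (a + c) → ZMod n)) := by
  let g' : B →ₗ[ZMod n] (Fin c → ZMod n) :=
    { toFun := fun b => eC (g b)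
      map_add' := fun b b' => by rw [map_add, map_add]
      map_smul' := fun r b => ZMod.map_smul (eC.toAddMonoidHom.comp g) r b }
  have hg' : Function.Surjective g' := fun z => by
    obtain ⟨b, hb⟩ := hg (eC.symm z)
    exact ⟨b, (congrArg eC hb).trans (eC.apply_symm_apply z)⟩
  obtain ⟨s, hs⟩ := Module.projective_lifting_property g' LinearMap.id hg'
  have hs' : ∀ z, eC (g (s z)) = z := fun z => LinearMap.congr_fun hs z
  let φ : (Fin a → ZMod n) × (Fin c → ZMod n) →+ B :=
    (f.comp eA.symm.toAddMonoidHom).coprod s.toAddMonoidHom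
  have hφ : Function.Bijective φ := by
    constructor
    · refine (injective_iff_map_eq_zero _).2 ?_
      rintro ⟨u, w⟩ h
      have h' : f (eA.symm u) + s w = 0 := h
      have hw : w = 0 := by
        have h1 := congrArg (fun b => eC (g b)) h'
        simp only [map_add, map_zero, hs', (hex _).2 ⟨eA.symm u, rfl⟩, zero_add] at h1
        exact h1
      subst hw
      rw [map_zero, add_zero] at h'
      have hu : eA.symm u = 0 := hf (h'.trans (map_zero f).symm)
      rw [eA.symm.map_eq_zero_iff.1 hu]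
      rfl
    · intro b
      have h0 : g (b - s (eC (g b))) = 0 := by
        rw [map_sub, sub_eq_zero]
        exact eC.injective (hs' (eC (g b))).symm
      obtain ⟨x, hx⟩ := (hex _).1 h0
      refine ⟨(eA x, eC (g b)), ?_⟩
      show f (eA.symm (eA x)) + s (eC (g b)) = b
      rw [eA.symm_apply_apply, hx, sub_add_cancel]
  exact ⟨(AddEquiv.ofBijective φ hφ).symm.trans
    (((LinearEquiv.sumArrowLequivProdArrow (Fin a) (Fin c) (ZMod n) (ZMod n)).symm.trans
      (LinearEquiv.funCongrLeft (ZMod n) (ZMod n) finSumFinEquiv.symm)).toAddEquiv)⟩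


/-- an extension of free `ℤ/n`-groups killed by `n` is free -/
theorem nonempty_equiv_of_extension {n a c : ℕ} [NeZero n] {A B C : Type v} [AddCommGroup A] [AddCommGroup B]
    [AddCommGroup C] (f : A →+ B) (g : B →+ C) (hf : Function.Injective f) (hg : Function.Surjective g)
    (hex : ∀ b, g b = 0 ↔ ∃ x, f x = b) (hB : ∀ b : B, n • b = 0)
    (eA : A ≃+ (Fin a → ZMod n)) (eC : C ≃+ (Fin c → ZMod n)) :
    Nonempty (B ≃+ (Fin (a + c) → ZMod n)) := by
  letI : Module (ZMod n) B := AddCommGroup.zmodModule hB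
  exact nonempty_equiv_of_extension_aux f g hf hg hex eA eC

open TensorProduct in
/-- the kernel of a surjection from a free module onto `ℤ/n` is free -/
theorem nonempty_basis_ker {n r : ℕ} [NeZero n] (g : (Fin r → ZMod n) →ₗ[ZMod n] ZMod n)
    (hg : Function.Surjective g) : Nonempty (Module.Basis (Fin (r - 1)) (ZMod n) (LinearMap.ker g)) := by
  obtain ⟨s, hs⟩ := Module.projective_lifting_property g LinearMap.id hg
  have hs' : ∀ z, g (s z) = z := fun z => LinearMap.congr_fun hs z
  let φ : (LinearMap.ker g × ZMod n) →ₗ[ZMod n] (Fin r → ZMod n) :=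
    (LinearMap.ker g).subtype.coprod s
  have hφ : Function.Bijective φ := by
    refine ⟨(injective_iff_map_eq_zero _).2 ?_, fun v => ?_⟩
    · rintro ⟨a, z⟩ h
      have h' : (a : Fin r → ZMod n) + s z = 0 := h
      have hz : z = 0 := by
        have := congrArg g h'
        rwa [map_add, LinearMap.mem_ker.1 a.2, zero_add, hs', map_zero] at this
      subst hz
      rw [map_zero, add_zero] at h'
      exact Prod.ext (Subtype.ext h') rfl
    · refine ⟨(⟨v - s (g v), ?_⟩, g v), sub_add_cancel v _⟩
      rw [LinearMap.mem_ker, map_sub, hs', sub_self]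
  let e := LinearEquiv.ofBijective φ hφ
  let pr : (Fin r → ZMod n) →ₗ[ZMod n] LinearMap.ker g :=
    (LinearMap.fst (ZMod n) _ _).comp e.symm.toLinearMap
  let inc : LinearMap.ker g →ₗ[ZMod n] (Fin r → ZMod n) :=
    e.toLinearMap.comp (LinearMap.inl (ZMod n) _ _)
  haveI : Module.Projective (ZMod n) (LinearMap.ker g) :=
    Module.Projective.of_split inc pr (LinearMap.ext fun a => by simp [pr, inc])
  haveI : Module.Finite (ZMod n) (LinearMap.ker g) := Module.Finite.of_surjective pr fun a => ⟨inc a, by simp [pr, inc]⟩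
  refine Module.nonempty_basis_of_flat_of_finrank_eq _ _ _ fun P => ?_
  letI := Ideal.Quotient.field P.1
  let k := ZMod n ⧸ P.1
  let f : (k ⊗[ZMod n] LinearMap.ker g × k ⊗[ZMod n] ZMod n) ≃ₗ[k] k ⊗[ZMod n] (Fin r → ZMod n) :=
    (TensorProduct.prodRight (ZMod n) k k _ _).symm.trans (TensorProduct.AlgebraTensorModule.congr (LinearEquiv.refl k k) e)
  have h := f.finrank_eq
  rw [Module.finrank_prod, (TensorProduct.AlgebraTensorModule.rid (ZMod n) k k).finrank_eq,
    (TensorProduct.piScalarRight (ZMod n) k k (Fin r)).finrank_eq, Module.finrank_fin_fun, Module.finrank_self] at h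
  show Module.finrank k (k ⊗[ZMod n] LinearMap.ker g) = r - 1
  omega

/-- the kernel of a surjection from a free group onto `ℤ/n` is free -/
theorem nonempty_equiv_ker {n r : ℕ} [NeZero n] {H C : Type v} [AddCommGroup H] [AddCommGroup C] (γ : H →+ C)
    (hγ : Function.Surjective γ) (eH : H ≃+ (Fin r → ZMod n)) (eC : C ≃+ ZMod n) :
    Nonempty (γ.ker ≃+ (Fin (r - 1) → ZMod n)) := by
  let g : (Fin r → ZMod n) →ₗ[ZMod n] ZMod n :=
    ((eC.toAddMonoidHom.comp γ).comp eH.symm.toAddMonoidHom).toZModLinearMap n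
  have hgx : ∀ x, g (eH x) = eC (γ x) := fun x => congrArg (fun y => eC (γ y)) (eH.symm_apply_apply x)
  obtain ⟨b⟩ := nonempty_basis_ker g fun z => by
    obtain ⟨x, hx⟩ := hγ (eC.symm z)
    exact ⟨eH x, by rw [hgx, hx, eC.apply_symm_apply]⟩
  let ψ : γ.ker →+ LinearMap.ker g :=
    { toFun := fun x => ⟨eH x.1, by rw [LinearMap.mem_ker, hgx, AddMonoidHom.mem_ker.1 x.2, map_zero]⟩
      map_zero' := Subtype.ext (map_zero eH)
      map_add' := fun x y => Subtype.ext (map_add eH x.1 y.1) }
  have hψ : Function.Bijective ψ := by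
    refine ⟨fun x y h => Subtype.ext (eH.injective (congrArg Subtype.val h)), fun v => ⟨⟨eH.symm v.1, ?_⟩, ?_⟩⟩
    · rw [AddMonoidHom.mem_ker]
      refine eC.injective ?_
      rw [← hgx, eH.apply_symm_apply, map_zero]
      exact v.2
    · exact Subtype.ext (eH.apply_symm_apply v.1)
  exact ⟨(AddEquiv.ofBijective ψ hψ).trans b.equivFun.toAddEquiv⟩

end Groth.Agent.CurveAff

end
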