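import Groth.Agent.CurveCd.ClosedAcyclic
import Groth.Agent.CurveFin.Leray
import Groth.Agent.EtFound.PullStalk
import Groth.Agent.EtFound.SepClosedField
import Groth.Agent.CurveAff.ZModExt

/-!
# Global sections of sheaves supported at finitely many closed points
-/

set_option autoImplicit false
set_option linter.style.haveILetI false
set_option linter.unusedSectionVars false
set_option backward.isDefEq.respectTransparency false
set_option backward.isDefEq.respectTransparency.types false
set_option maxHeartbeats 1600000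

universe u v

open CategoryTheory CategoryTheory.Limits AlgebraicGeometry Opposite Abelian

noncomputable section

namespace Groth.Agent.CurveAff

open Groth.Agent.EtFound Groth.Agent.EtFound.ClosedSupp Groth.Agent.CurveFin.Leray

variable {X : Scheme.{u}}

/-- killed sheaves have killed cohomology -/
theorem nsmul_H_eq_zero {F : EtCoh.Ab X} {n : ℕ} (hF : n • 𝟙 F = 0) (q : ℕ) (x : EtCoh.H X F q) : n • x = 0 := by
  let e : (F ⟶ F) →+ EtCoh.H X F q :=
    AddMonoidHom.mk' (fun φ => x.comp (Ext.mk₀ φ) (add_zero q))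
      (fun φ ψ => by rw [Ext.mk₀_add, Ext.comp_add])
  have h := map_nsmul e n (𝟙 F)
  rw [hF, map_zero] at h
  rw [h]
  show n • x = n • x.comp (Ext.mk₀ (𝟙 F)) (add_zero q)
  rw [Ext.comp_mk₀_id]

/-- the group of degree zero cohomology at a point -/
theorem nonempty_H0_push_point {k : Type u} [Field k] [IsSepClosed k] (i : Spec (CommRingCat.of k) ⟶ X)
    [IsClosedImmersion i] (F : EtCoh.Ab X) :
    Nonempty (EtCoh.H X ((EtCoh.push i).obj ((EtCoh.pull i).obj F)) 0 ≃+ (EtCoh.stalk i).obj F) := by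
  haveI := EtFound.pull_preservesFiniteLimits i
  let G := (EtCoh.pull i).obj F
  let e₁ : EtCoh.H X ((EtCoh.push i).obj G) 0 ≃+ EtCoh.H (Spec (CommRingCat.of k)) G 0 :=
    AddEquiv.ofBijective (EtLim.HofPush i G 0) (BcQCalc.HofPush_bijective_zero i G)
  let e₂ := Sheaf.H.equiv₀ G (EtFound.topIsTerminal (Spec (CommRingCat.of k)))
  let e₃ : G.obj.obj (op (EtCoh.top (Spec (CommRingCat.of k)))) ≃+ (EtCoh.stalk (𝟙 (Spec (CommRingCat.of k)))).obj G :=
    AddEquiv.ofBijective ((Scheme.pointSmallEtale (𝟙 (Spec (CommRingCat.of k)))).toPresheafFiber _ (idTop k) G.obj).hom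
      (toPresheafFiber_idTop_bijective G.obj)
  let e₄ := ((stalkPullIso i (𝟙 (Spec (CommRingCat.of k)))).app F ≪≫
    eqToIso (congrArg (fun ξ => (EtCoh.stalk ξ).obj F) (Category.id_comp i))).addCommGroupIsoToAddEquiv
  exact ⟨((e₁.trans e₂).trans e₃).trans e₄⟩

/-- sections of a sheaf with stalks `ℤ/n` at finitely many closed points and zero elsewhere -/
theorem nonempty_H0_finite {n : ℕ} [NeZero n]
    (hsep : ∀ x : X, IsClosed ({x} : Set X) → IsSepClosed (X.residueField x)) :
    ∀ (S : Finset X), (∀ x ∈ S, IsClosed ({x} : Set X)) →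
    ∀ (F : EtCoh.Ab X), EtPBC.supp F ⊆ (S : Set X) → n • 𝟙 F = 0 →
      (∀ (Ω : Type u) [Field Ω] [IsSepClosed Ω] (ξ : Spec (CommRingCat.of Ω) ⟶ X),
        ξ.base (default : Spec (CommRingCat.of Ω)) ∈ S → Nonempty ((EtCoh.stalk ξ).obj F ≃+ ZMod n)) →
      Nonempty (EtCoh.H X F 0 ≃+ (Fin S.card → ZMod n)) := by
  classical
  intro S
  induction S using Finset.induction with
  | empty =>
    intro _ F hF _ _
    have h0 : IsZero F := (IsZero.iff_id_eq_zero _).2 (eq_of_stalks _ _ fun Ω _ _ ξ =>
      (isZero_stalk_of_not_mem ξ fun h => by simpa using hF h).eq_of_src _ _)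
    haveI : Subsingleton (EtCoh.H X F 0) := subsingleton_of_forall_eq 0 fun x => by
      rw [← Ext.comp_mk₀_id x, h0.eq_of_src (𝟙 F) 0, Ext.mk₀_zero, Ext.comp_zero]
    rw [Finset.card_empty]
    exact ⟨AddEquiv.mk' (equivOfSubsingletonOfSubsingleton (fun _ => 0) (fun _ => 0)) fun _ _ => Subsingleton.elim _ _⟩
  | insert x S hx ih =>
    intro hcl F hF hn hst
    have hxc : IsClosed ({x} : Set X) := hcl x (Finset.mem_insert_self x S)
    haveI := AlgSpDec.isClosedImmersion_fromSpecResidueField hxc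
    let i := X.fromSpecResidueField x
    haveI : IsClosedImmersion i := AlgSpDec.isClosedImmersion_fromSpecResidueField hxc
    haveI : IsSepClosed (X.residueField x) := hsep x hxc
    let U : X.Opens := ⟨{x}ᶜ, hxc.isOpen_compl⟩
    haveI : EtShriek.JCont U.ι := EtFound.jCont U.ι
    have hU : Set.range U.ι.base = (Set.range i.base)ᶜ := by
      rw [Scheme.range_fromSpecResidueField]
      exact Scheme.Opens.range_ι U
    obtain ⟨w, hw⟩ := recollement_shortExact i U.ι hU F
    let F' := (EtShriek.extZero U.ι).obj ((EtShriek.restrAlong U.ι).obj F)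
    let a : F' ⟶ F := (EtShriek.extZeroAdj U.ι).counit.app F
    haveI : Mono a := hw.mono_f
    have hsupp : EtPBC.supp F' ⊆ (S : Set X) := by
      intro y hy
      rcases Finset.mem_insert.1 (Finset.mem_coe.1 (hF (supp_subset_of_mono' a hy))) with h | h
      · obtain ⟨Ω, _, _, ξ, hξ, hne⟩ := hy
        exfalso
        refine hne (isZero_stalk_extZero U.ι ξ ?_ _)
        subst h
        rw [hU, Scheme.range_fromSpecResidueField, Set.mem_compl_iff, not_not]
        rw [← hξ]
        exact Set.mem_range_self _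
      · exact h
    have hn' : n • 𝟙 F' = 0 := by
      rw [← cancel_mono a, zero_comp, Preadditive.nsmul_comp, Category.id_comp, ← Category.comp_id a,
        ← Preadditive.comp_nsmul, hn, comp_zero]
    have hst' : ∀ (Ω : Type u) [Field Ω] [IsSepClosed Ω] (ξ : Spec (CommRingCat.of Ω) ⟶ X),
        ξ.base (default : Spec (CommRingCat.of Ω)) ∈ S → Nonempty ((EtCoh.stalk ξ).obj F' ≃+ ZMod n) := by
      intro Ω _ _ ξ hξ
      obtain ⟨e⟩ := hst Ω ξ (Finset.mem_insert_of_mem hξ)
      have hT := hw.map_of_exact (EtCoh.stalk ξ)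
      have hz : IsZero ((EtCoh.stalk ξ).obj ((EtCoh.push i).obj ((EtCoh.pull i).obj F))) :=
        isZero_stalk_push_closed i _ ξ (by
          rw [Scheme.range_fromSpecResidueField]
          exact fun h => hx (Set.mem_singleton_iff.1 h ▸ hξ))
      haveI := hT.mono_f
      haveI : Epi ((EtCoh.stalk ξ).map a) := hT.exact.epi_f (hz.eq_of_tgt _ _)
      haveI : Mono ((EtCoh.stalk ξ).map a) := hT.mono_f
      haveI := isIso_of_mono_of_epi ((EtCoh.stalk ξ).map a)
      exact ⟨(asIso ((EtCoh.stalk ξ).map a)).addCommGroupIsoToAddEquiv.trans e⟩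
    obtain ⟨eA⟩ := ih (fun z hz => hcl z (Finset.mem_insert_of_mem hz)) F' hsupp hn' hst'
    obtain ⟨eP⟩ := @nonempty_H0_push_point X (X.residueField x) _ ‹IsSepClosed (X.residueField x)› i _ F
    obtain ⟨eX⟩ := @hst (X.residueField x) _ ‹IsSepClosed (X.residueField x)› i (by
      have hr : i.base (default : Spec (CommRingCat.of (X.residueField x))) ∈ ({x} : Set X) :=
        Scheme.range_fromSpecResidueField (X := X) x ▸ Set.mem_range_self _
      convert Finset.mem_insert_self x S using 1
      exact Set.mem_singleton_iff.1 hr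
      )
    let eC := (eP.trans eX).trans (LinearEquiv.funUnique (Fin 1) (ZMod n) (ZMod n)).symm.toAddEquiv
    let g := (EtCoh.pullPushAdj i).unit.app F
    obtain ⟨e⟩ := nonempty_equiv_of_extension (hm a 0) (hm g 0)
      ((injective_iff_map_eq_zero _).2 fun y hy => by
        obtain ⟨z, rfl⟩ := Ext.homEquiv₀.symm.surjective y
        have hy' : (Ext.homEquiv₀.symm z).comp (Ext.mk₀ a) (add_zero 0) = 0 := hy
        rw [Ext.homEquiv₀_symm_apply, Ext.mk₀_comp_mk₀, ← Ext.mk₀_zero] at hy'
        have h := (Ext.mk₀_bijective _ _).1 hy'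
        rw [← zero_comp (f := a), cancel_mono] at h
        rw [Ext.homEquiv₀_symm_apply, h, Ext.mk₀_zero])
      (fun y => Ext.covariant_sequence_exact₃ _ hw y (rfl : 0 + 1 = 1)
        (@Subsingleton.elim _ (CurveCd.ClosedAcyclic.subsingleton_H_of_finite hsep S
          (fun z hz => hcl z (Finset.mem_insert_of_mem hz)) F' hsupp 0) _ _))
      (fun b => ⟨fun hb => Ext.covariant_sequence_exact₂ _ hw b hb, by
        rintro ⟨z, rfl⟩
        refine (hm_comp a g 0 z).trans ?_
        show z.comp (Ext.mk₀ (a ≫ g)) (add_zero 0) = 0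
        rw [show a ≫ g = 0 from w, Ext.mk₀_zero, Ext.comp_zero]⟩)
      (nsmul_H_eq_zero hn 0) eA eC
    rw [Finset.card_insert_of_notMem hx]
    exact ⟨e⟩

end Groth.Agent.CurveAff

end
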