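import Groth.Agent.CurveFin.Punctured

/-!
# The first direct image of constants along an open immersion of curves
-/

set_option autoImplicit false
set_option linter.style.haveILetI false
set_option linter.unusedSectionVars false
set_option backward.isDefEq.respectTransparency false
set_option backward.isDefEq.respectTransparency.types false
set_option maxHeartbeats 1600000
set_option synthInstance.maxHeartbeats 200000

universe u

open CategoryTheory CategoryTheory.Limits AlgebraicGeometry Opposite Abelian IsLocalRing

noncomputable section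

namespace Groth.Agent.CurveAff

open Groth.Agent.EtFound Groth.Agent.CurveFin

attribute [local instance] EtFound.pull_preservesFiniteLimits

/-- stalks only depend on the image point, additively -/
theorem nonempty_stalk_addEquiv {X : Scheme.{u}} (F : EtCoh.Ab X) {k k' : Type u} [Field k] [IsSepClosed k]
    [Field k'] [IsSepClosed k'] (ξ : Spec (CommRingCat.of k) ⟶ X) (ξ' : Spec (CommRingCat.of k') ⟶ X)
    (h : ξ.base (default : Spec (CommRingCat.of k)) = ξ'.base (default : Spec (CommRingCat.of k'))) :
    Nonempty ((EtCoh.stalk ξ).obj F ≃+ (EtCoh.stalk ξ').obj F) := by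
  obtain ⟨Ω, _, _, z, e, he⟩ := exists_lift_extension ξ ξ' ⟨default, h⟩
  let a := (stalkExtIso AddCommGrpCat.{u + 1} ξ z).app F ≪≫
    eqToIso (congrArg (fun q => (EtCoh.stalk q).obj F) he.symm) ≪≫ ((stalkExtIso AddCommGrpCat.{u + 1} ξ' e).app F).symm
  exact ⟨a.addCommGroupIsoToAddEquiv⟩

/-- the stalks of the first direct image of a constant sheaf along an open immersion into a normal curve -/
theorem stalk_Rpush_one (k : Type u) [Field k] [IsAlgClosed k] {U Y : Scheme.{u}}
    (s : Y ⟶ Spec (CommRingCat.of k)) [LocallyOfFiniteType s] [IsIntegral Y] (hY : Pi1.IsNormalScheme Y)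
    (hdim : topologicalKrullDim Y ≤ 1) (j : U ⟶ Y) [IsOpenImmersion j] [QuasiCompact j] [Nonempty U]
    (n : ℕ) (hnk : (n : k) ≠ 0) {Ω : Type u} [Field Ω] [IsSepClosed Ω]
    (ξ : Spec (CommRingCat.of Ω) ⟶ Y) :
    (ξ.base (default : Spec (CommRingCat.of Ω)) ∈ Set.range j.base →
      Subsingleton ((EtCoh.stalk ξ).obj ((EtCoh.Rpush j 1).obj (EtCoh.const U (ZMod n))))) ∧
    (ξ.base (default : Spec (CommRingCat.of Ω)) ∉ Set.range j.base →
      Nonempty ((EtCoh.stalk ξ).obj ((EtCoh.Rpush j 1).obj (EtCoh.const U (ZMod n))) ≃+ ZMod n)) := by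
  haveI : NeZero n := ⟨fun h => hnk (by simp [h])⟩
  haveI : IsLocallyNoetherian Y := LocallyOfFiniteType.isLocallyNoetherian s
  haveI : QuasiSeparated j := inferInstance
  let y := ξ.base (default : Spec (CommRingCat.of Ω))
  obtain ⟨R, _, _, _, _, hR⟩ := BcQCalc.exists_strictHens (Y.presheaf.stalk y)
  haveI := hR
  haveI : HenselianLocalRing R := _root_.Hensel.IsStrictHenselization.henselian (R := Y.presheaf.stalk y)
  haveI : IsSepClosed (ResidueField R) :=
    (_root_.Hensel.IsStrictHenselization.isSepClosure (R := Y.presheaf.stalk y) (S := R)).sep_closed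
  let h := Hens2.specOf Y y R
  obtain ⟨e⟩ := RpushStalk.nonempty_stalk_natIso j y R 1
  have hgeo : (Hens2.geomPt Y y R).base (default : Spec (CommRingCat.of (ResidueField R))) = y := by
    show (Spec.map (CommRingCat.ofHom (residue R)) ≫ Hens2.specOf Y y R).base default = y
    rw [Scheme.Hom.comp_apply]
    exact (congrArg (Hens2.specOf Y y R) (EtFound.cpt_base R _)).trans (LocAcycLib.specOf_closedPoint Y y R)
  let F := (EtCoh.Rpush j 1).obj (EtCoh.const U (ZMod n))
  obtain ⟨se⟩ := nonempty_stalk_addEquiv F ξ (Hens2.geomPt Y y R) hgeo.symm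
  let P := pullback j h
  let ec : (EtCoh.stalk ξ).obj F ≃+ EtCoh.H P (EtCoh.const P (ZMod n)) 1 :=
    se.trans (((e.app (EtCoh.const U (ZMod n))) ≪≫ (EtCoh.HF P 1).mapIso
      (EtCore.pullConst (pullback.fst j h) (ZMod n))).addCommGroupIsoToAddEquiv)
  haveI : IsOpenImmersion (pullback.snd j h) := inferInstance
  have hrange : ∀ z : Spec (CommRingCat.of R), z ∈ Set.range (pullback.snd j h).base ↔ h z ∈ Set.range j.base := by
    intro z
    rw [Scheme.Pullback.range_snd]
    rfl
  have hclosed : h (closedPoint R) = y := LocAcycLib.specOf_closedPoint Y y R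
  by_cases hy : y ∈ Set.range j.base
  · -- the point lies in the open
    refine ⟨fun _ => ?_, fun h' => absurd hy h'⟩
    haveI : Surjective (pullback.snd j h) := ⟨fun z => by
      refine (hrange z).2 ((IsLocalRing.specializes_closedPoint (R := R) z).map h.continuous |>.mem_open
        j.isOpenEmbedding.isOpen_range (hclosed.symm ▸ hy))⟩
    haveI : IsIso (pullback.snd j h) :=
      (isIso_iff_isOpenImmersion_and_surjective _).2 ⟨inferInstance, inferInstance⟩
    obtain ⟨q⟩ := nonempty_H_const_equiv (asIso (pullback.snd j h)) (ZMod n) 1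
    haveI := S0073.result R (EtCoh.const (Spec (CommRingCat.of R)) (ZMod n)) 1 le_rfl
    exact (ec.trans q.symm).toEquiv.subsingleton
  · refine ⟨fun h' => absurd h' hy, fun _ => ?_⟩
    let O := Y.presheaf.stalk y
    have hne : y ≠ genericPoint Y := fun e' => hy (e' ▸ by
      obtain ⟨u⟩ := ‹Nonempty U›
      exact (genericPoint_specializes (j u)).mem_open j.isOpenEmbedding.isOpen_range ⟨u, rfl⟩)
    have hlt : (0 : WithBot ℕ∞) < ringKrullDim O := by
      rw [ringKrullDim_stalk_eq_coheight]
      have : Order.coheight y ≠ 0 := fun h0 => hne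
        (((genericPoint_specializes y).antisymm (Order.coheight_eq_zero.1 h0 (genericPoint_specializes y))).eq.symm)
      exact_mod_cast pos_iff_ne_zero.2 this
    have hO : ringKrullDim O = 1 := le_antisymm ((CurveCohLib.ringKrullDim_stalk_le_topologicalKrullDim y).trans hdim)
      (by
        rw [ringKrullDim_stalk_eq_coheight] at hlt ⊢
        exact WithBot.coe_le_coe.2 (Order.one_le_iff_pos.2 (WithBot.coe_lt_coe.1 hlt)))
    haveI : IsRegularLocalRing O := Ref1X.isRegular_of_normal_dim_le_one hY hO.le
    haveI : IsNoetherianRing R := (S0540.result O R).1 inferInstance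
    haveI : IsRegularLocalRing R := (S2743.result O R).2 inferInstance
    have hdR : ringKrullDim R = 1 := (S0541.result O R).trans hO
    haveI : IsDomain R := (RegUFD.ufd R).1
    obtain ⟨x, hx⟩ : ∃ x : R, maximalIdeal R = Ideal.span {x} := by
      have hs : (maximalIdeal R).spanFinrank = 1 := by
        have := IsRegularLocalRing.spanFinrank_maximalIdeal (R := R)
        rw [hdR] at this
        exact_mod_cast this
      haveI : (maximalIdeal R).IsPrincipal := ((Submodule.spanFinrank_eq_one_iff _).1 hs).1
      exact ⟨_, (Ideal.span_singleton_generator _).symm⟩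
    let a : Spec (CommRingCat.of (Localization.Away x)) ⟶ Spec (CommRingCat.of R) :=
      Spec.map (CommRingCat.ofHom (algebraMap R (Localization.Away x)))
    haveI : IsOpenImmersion a := IsOpenImmersion.of_isLocalization x
    have hra : Set.range (pullback.snd j h).base = Set.range a.base := by
      ext z
      refine (hrange z).trans (Iff.trans ?_ (Set.ext_iff.1 (PrimeSpectrum.localization_away_comap_range
        (Localization.Away x) x) z).symm)
      show h z ∈ Set.range j.base ↔ x ∉ z.asIdeal
      constructor
      · intro hz hxz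
        have hmax : z.asIdeal = maximalIdeal R := le_antisymm (IsLocalRing.le_maximalIdeal z.isPrime.ne_top)
          (hx ▸ (Ideal.span_singleton_le_iff_mem _).2 hxz)
        have : z = closedPoint R := PrimeSpectrum.ext hmax
        rw [this, hclosed] at hz
        exact hy hz
      · intro hxz
        have hsp : h z ⤳ y := hclosed ▸ (IsLocalRing.specializes_closedPoint (R := R) z).map h.continuous
        have hne' : h z ≠ y := fun e' => by
          let φ := algebraMap O R
          let w : Spec O := (Spec.map (CommRingCat.ofHom φ)) z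
          have hw : Y.fromSpecStalk y w = Y.fromSpecStalk y (closedPoint O) := by
            rw [Scheme.fromSpecStalk_closedPoint]
            exact e'
          have hw' : w = closedPoint O := (Y.fromSpecStalk y).isEmbedding.injective hw
          have hle : maximalIdeal O ≤ z.asIdeal.comap φ := (congrArg PrimeSpectrum.asIdeal hw').ge
          have hm : maximalIdeal R ≤ z.asIdeal := by
            rw [← (Hensel.isHenzLike_of_isStrictHenselization O R).map_maximalIdeal]
            exact Ideal.map_le_iff_le_comap.2 hle
          exact hxz (hm (hx ▸ Ideal.mem_span_singleton_self x))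
        obtain ⟨u⟩ := ‹Nonempty U›
        have hgen : genericPoint Y ∈ Set.range j.base :=
          (genericPoint_specializes (j u)).mem_open j.isOpenEmbedding.isOpen_range ⟨u, rfl⟩
        have hc : h z = genericPoint Y := by
          by_contra hz
          have h1 : y < h z := lt_of_le_not_ge hsp fun h' => hne' ((Specializes.antisymm hsp h').eq)
          have h2 : h z < genericPoint Y := lt_of_le_not_ge (genericPoint_specializes (h z)) fun h' =>
            hz ((Specializes.antisymm (x := h z) h' (genericPoint_specializes (h z))).eq)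
          have h3 : ((2 : ℕ∞) : WithBot ℕ∞) ≤ ringKrullDim O := by
            rw [ringKrullDim_stalk_eq_coheight]
            refine WithBot.coe_le_coe.2 ?_
            calc (2 : ℕ∞) = 0 + 1 + 1 := rfl
              _ ≤ Order.coheight (genericPoint Y) + 1 + 1 := add_le_add_left (add_le_add_left bot_le 1) 1
              _ ≤ Order.coheight (h z) + 1 := add_le_add_left (Order.coheight_add_one_le h2) 1
              _ ≤ Order.coheight y := Order.coheight_add_one_le h1
          rw [hO] at h3
          exact absurd (WithBot.coe_le_coe.1 h3) (by norm_num)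
        rw [hc]
        exact hgen
    let θ : P ≅ Spec (CommRingCat.of (Localization.Away x)) :=
      IsOpenImmersion.isoOfRangeEq (pullback.snd j h) a hra
    obtain ⟨q⟩ := nonempty_H_const_equiv θ (ZMod n) 1
    have hℓR : IsUnit (n : R) := by
      have := (isUnit_iff_ne_zero.2 hnk).map
        ((algebraMap O R).comp ((Y.presheaf.germ ⊤ y trivial).hom.comp (Coh.toGlobal s)))
      rwa [map_natCast] at this
    have hxm : x ∈ maximalIdeal R := hx ▸ Ideal.mem_span_singleton_self x
    have hx2 : x ∉ maximalIdeal R ^ 2 := fun h' => by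
      have hx0 : x ≠ 0 := fun h0 => by
        rw [h0, Ideal.span_singleton_eq_bot.2 rfl] at hx
        rw [ringKrullDim_eq_zero_of_isField (IsLocalRing.isField_iff_maximalIdeal_eq.2 hx)] at hdR
        exact zero_ne_one hdR
      rw [hx, Ideal.span_singleton_pow, Ideal.mem_span_singleton] at h'
      obtain ⟨c, hc⟩ := h'
      have h1 : x * c = 1 := mul_left_cancel₀ hx0 (by rw [mul_one, ← mul_assoc, ← sq, ← hc])
      exact (IsLocalRing.mem_maximalIdeal x).1 hxm (IsUnit.of_mul_eq_one c h1)
    obtain ⟨e1⟩ := EtMu5.main R ⟨inferInstance, inferInstance⟩ x hxm hx2 n hℓR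
    obtain ⟨i⟩ := PicCurve.nonempty_mu_iso_const' (a ≫ h ≫ s) hnk
    exact ⟨((ec.trans q.symm).trans ((EtCoh.HF (Spec (CommRingCat.of (Localization.Away x))) 1).mapIso i).addCommGroupIsoToAddEquiv.symm).trans e1⟩

end Groth.Agent.CurveAff

end
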