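import Groth.Agent.CurveAff.Mu
import Groth.Agent.CurveAff.FiveTerm
import Groth.Agent.CurveAff.PointH0
import Groth.Agent.CurveAff.StalkOne
import Groth.Agent.CurveAff.ZModExt
import Groth.Agent.CurveFin.Open

/-!
# The first cohomology of a punctured curve
-/

set_option autoImplicit false
set_option linter.style.haveILetI false
set_option linter.unusedSectionVars false
set_option backward.isDefEq.respectTransparency false
set_option backward.isDefEq.respectTransparency.types false
set_option maxHeartbeats 1600000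
set_option synthInstance.maxHeartbeats 400000
attribute [-instance] CategoryTheory.catToReflQuiver

universe u

open CategoryTheory CategoryTheory.Limits AlgebraicGeometry TopologicalSpace Opposite CategoryTheory.Abelian

noncomputable section

namespace Groth.Agent.CurveAff

open Groth.Agent.EtFound Groth.Agent.CurveFin Groth.Agent.CurveFin.Leray

attribute [local instance] EtFound.pull_preservesFiniteLimits

variable {k : Type u} [Field k] [IsAlgClosed k] {X : Scheme.{u}} [X.Over (Spec (CommRingCat.of k))] [IsIntegral X]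
  [IsProper (X ↘ Spec (CommRingCat.of k))] [Smooth (X ↘ Spec (CommRingCat.of k))]

include k in
/-- `H¹` of a punctured curve with constant coefficients -/
theorem nonempty_H1_const_open (hdim : topologicalKrullDim X = 1) (U : X.Opens) (hU : ((U : Set X)ᶜ).Finite)
    {p : X} (hpU : p ∉ U) {n : ℕ} (hn : (n : k) ≠ 0) :
    Nonempty (EtCoh.H (U : Scheme.{u}) (EtCoh.const (U : Scheme.{u}) (ZMod n)) 1 ≃+
      (Fin (2 * Curv2.genus k X + (hU.toFinset.card - 1)) → ZMod n)) := by
  haveI := CurveCohLib.isNoetherian_of_proper (k := k) (X := X)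
  haveI : NeZero n := ⟨fun h => hn (by simp [h])⟩
  let s := X ↘ Spec (CommRingCat.of k)
  haveI : IsProper s := ‹_›
  haveI : Smooth s := ‹_›
  let j : (U : Scheme.{u}) ⟶ X := U.ι
  have hgen := genericPoint_mem (k := k) hdim U hU
  haveI : Nonempty (U : Scheme.{u}) := ⟨⟨genericPoint X, hgen⟩⟩
  haveI : QuasiCompact j := inferInstance
  haveI : (EtCoh.push j).IsRightAdjoint := (EtCoh.pullPushAdj j).isRightAdjoint
  haveI : PreservesFiniteLimits (EtCoh.push j) := EtFound.push_preservesFiniteLimits j
  let G := EtCoh.const (U : Scheme.{u}) (ZMod n)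
  have hY : Pi1.IsNormalScheme X := Ref1X.isNormalScheme_of_regular fun x =>
    GrpSchLib.isRegularLocalRing_stalk_of_smooth s x
  obtain ⟨iμ⟩ := PicCurve.nonempty_mu_iso_const' (j ≫ s) hn
  have h2 : Subsingleton (EtCoh.H (U : Scheme.{u}) G 2) := by
    haveI := subsingleton_H_mu (k := k) hdim U hU hpU hn 2 le_rfl
    exact ((hm_bijective iμ 2).2).subsingleton
  haveI : IsIso ((EtCoh.pullPushAdj j).unit.app (EtCoh.const X (ZMod n))) := by
    haveI : IsPreimmersion (𝟙 _ ≫ j) := by rw [Category.id_comp]; infer_instance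
    haveI : QuasiCompact (𝟙 _ ≫ j) := by rw [Category.id_comp]; infer_instance
    refine ConstVal.isIso_unit_const_normal j hY (𝟙 _) ?_ (ZMod n)
    rw [Category.id_comp]
    refine ConstVal.maxInRange_generic X _ ?_
    rw [Scheme.Opens.range_ι]
    exact hgen
  let e0 : EtCoh.const X (ZMod n) ≅ (EtCoh.push j).obj G :=
    asIso ((EtCoh.pullPushAdj j).unit.app (EtCoh.const X (ZMod n))) ≪≫
      (EtCoh.push j).mapIso (EtCore.pullConst j (ZMod n))
  obtain ⟨α, β, γ, hα, hβ, hγ, hγs⟩ := exists_fiveTerm j G h2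
  obtain ⟨eA'⟩ := PicCurve.nonempty_H1_const (X := X) hdim n hn
  obtain ⟨eC'⟩ := PicCurve.nonempty_H2_const (X := X) hdim n hn
  let eA := (AddEquiv.ofBijective (hm e0.hom 1) (hm_bijective e0 1)).symm.trans eA'
  let eC := (AddEquiv.ofBijective (hm e0.hom 2) (hm_bijective e0 2)).symm.trans eC'
  -- the skyscraper
  let F := (EtCoh.Rpush j 1).obj G
  have hG : n • 𝟙 G = 0 := GalCd5.killed_const _ n fun y => by rw [nsmul_eq_mul, ZMod.natCast_self, zero_mul]
  have hF : n • 𝟙 F = 0 := by
    haveI : (EtCoh.Rpush j 1).Additive :=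
      inferInstanceAs (((EtCoh.push j).rightDerived 1).Additive)
    exact GalCd5.killed_map (EtCoh.Rpush j 1) G n hG
  have hrange : Set.range j.base = (U : Set X) := Scheme.Opens.range_ι U
  have hsupp : EtPBC.supp F ⊆ (hU.toFinset : Set X) := by
    rintro y ⟨Ω, i1, i2, ξ, hr, hne⟩
    rw [Set.Finite.coe_toFinset]
    intro hy
    rw [range_point, Set.singleton_eq_singleton_iff] at hr
    haveI := (stalk_Rpush_one k s hY hdim.le j n hn ξ).1 (by rw [hr, hrange]; exact hy)
    exact hne (AddCommGrpCat.isZero_of_subsingleton _)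
  have hcl : ∀ x ∈ hU.toFinset, IsClosed ({x} : Set X) := fun x hx =>
    CDiv6.isClosed_singleton hdim.le (fun h => (hU.mem_toFinset.1 hx) (h ▸ hgen))
  obtain ⟨eR⟩ := nonempty_H0_finite (n := n)
    (fun x hx => CurveCd.isSepClosed_residueField_of_isClosed k s hx) hU.toFinset hcl F hsupp hF
    (fun Ω _ _ ξ hξ => (stalk_Rpush_one k s hY hdim.le j n hn ξ).2 (by
      rw [hrange]
      exact hU.mem_toFinset.1 hξ))
  obtain ⟨eK⟩ := nonempty_equiv_ker γ hγs eR eC
  exact nonempty_equiv_of_extension α (β.codRestrict γ.ker fun z => (hγ _).2 ⟨z, rfl⟩) hα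
    (fun r => by
      obtain ⟨z, hz⟩ := (hγ r.1).1 r.2
      exact ⟨z, Subtype.ext hz⟩)
    (fun z => ⟨fun hz => (hβ z).1 (congrArg Subtype.val hz), fun hz => Subtype.ext ((hβ z).2 hz)⟩)
    (nsmul_H_eq_zero hG 1) eA eK

end Groth.Agent.CurveAff

end
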