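import Groth.Agent.CurveAff.PicDiv
import Groth.Agent.CurveCd.TorsionCd
import Groth.Agent.EtGmH1.Compare
import Mathlib.RingTheory.RootsOfUnity.EnoughRootsOfUnity

/-!
# Roots of unity on a punctured smooth proper curve
-/

noncomputable section

set_option autoImplicit false
set_option linter.style.haveILetI false
set_option linter.unusedSectionVars false
set_option backward.isDefEq.respectTransparency false
set_option backward.isDefEq.respectTransparency.types false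
set_option maxHeartbeats 1000000
set_option synthInstance.maxHeartbeats 400000
attribute [-instance] CategoryTheory.catToReflQuiver

universe u

open CategoryTheory CategoryTheory.Limits AlgebraicGeometry TopologicalSpace Opposite CategoryTheory.Abelian
open Groth.Agent.H23.PicMul

namespace Groth.Agent.CurveAff

open Groth.Agent.PicCurve
open AVTorsLib (tor mem_tor)

variable {X : Scheme.{u}}

/-- degree zero cohomology of `μ_n` is the torsion of the global units -/
theorem nonempty_H0_mu (n : ℕ) :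
    Nonempty (EtCoh.H X (EtCoh.mu X n) 0 ≃+ (tor n : AddSubgroup (EtCoh.H X (EtCoh.Gm X) 0))) := by
  let j : EtCoh.H X (EtCoh.mu X n) 0 →+ EtCoh.H X (EtCoh.Gm X) 0 :=
    (Ext.mk₀ (kernel.ι (EtCoh.powMap X n))).postcomp _ (add_zero 0)
  have hmem : ∀ x, j x ∈ (tor n : AddSubgroup (EtCoh.H X (EtCoh.Gm X) 0)) := fun x => by
    rw [mem_tor, ← comp_powMap 0 (j x)]
    show (x.comp (Ext.mk₀ (kernel.ι (EtCoh.powMap X n))) (add_zero 0)).comp (Ext.mk₀ (EtCoh.powMap X n)) (add_zero 0) = 0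
    rw [Ext.comp_assoc_of_second_deg_zero, Ext.mk₀_comp_mk₀, kernel.condition, Ext.mk₀_zero, Ext.comp_zero]
  refine ⟨AddEquiv.ofBijective (j.codRestrict _ hmem) ⟨(injective_iff_map_eq_zero _).2 fun x hx => ?_, fun y => ?_⟩⟩
  · have hx' : x.comp (Ext.mk₀ (kernel.ι (EtCoh.powMap X n))) (add_zero 0) = 0 := congrArg Subtype.val hx
    obtain ⟨a, rfl⟩ := Ext.homEquiv₀.symm.surjective x
    rw [Ext.homEquiv₀_symm_apply] at hx' ⊢
    rw [Ext.mk₀_comp_mk₀, ← Ext.mk₀_zero] at hx'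
    have h := (Ext.mk₀_bijective _ _).1 hx'
    rw [← zero_comp (Z := EtCoh.Gm X) (f := kernel.ι (EtCoh.powMap X n)), cancel_mono] at h
    rw [h, Ext.mk₀_zero]
  · obtain ⟨a, ha⟩ := Ext.homEquiv₀.symm.surjective y.1
    have h0 := (comp_powMap 0 y.1).trans ((mem_tor y.1).1 y.2)
    rw [← ha, Ext.homEquiv₀_symm_apply, Ext.mk₀_comp_mk₀, ← Ext.mk₀_zero] at h0
    refine ⟨Ext.mk₀ (kernel.lift _ a ((Ext.mk₀_bijective _ _).1 h0)), Subtype.ext ?_⟩
    show (Ext.mk₀ (kernel.lift _ a _)).comp (Ext.mk₀ (kernel.ι (EtCoh.powMap X n))) (add_zero 0) = y.1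
    rw [Ext.mk₀_comp_mk₀, kernel.lift_ι, ← ha, Ext.homEquiv₀_symm_apply]

/-- the torsion of the units and roots of unity -/
def torUnitsEquiv (R : Type u) [CommRing R] (n : ℕ) :
    (tor n : AddSubgroup (Additive Rˣ)) ≃+ Additive ↥(rootsOfUnity n R) where
  toFun z := Additive.ofMul ⟨z.1.toMul, (mem_rootsOfUnity n _).2
    (congrArg Additive.toMul ((mem_tor z.1).1 z.2))⟩
  invFun z := ⟨Additive.ofMul z.toMul.1, (mem_tor _).2
    (congrArg Additive.ofMul ((mem_rootsOfUnity n _).1 z.toMul.2))⟩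
  left_inv _ := rfl
  right_inv _ := rfl
  map_add' _ _ := rfl

/-- torsion transports along an isomorphism -/
def torCongr {A B : Type*} [AddCommGroup A] [AddCommGroup B] (e : A ≃+ B) (n : ℕ) :
    (tor n : AddSubgroup A) ≃+ (tor n : AddSubgroup B) :=
  torEquivOfInj e.toAddMonoidHom e.injective n fun q _ => e.surjective q

/-- a domain over an algebraically closed field has the roots of unity of the field -/
theorem nonempty_rootsOfUnity_equiv {k R : Type u} [Field k] [IsAlgClosed k] [CommRing R] [IsDomain R]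
    (φ : k →+* R) {n : ℕ} (hn : (n : k) ≠ 0) :
    Nonempty (↥(rootsOfUnity n R) ≃* ↥(rootsOfUnity n k)) := by
  haveI : NeZero (n : k) := ⟨hn⟩
  haveI : NeZero n := ⟨fun h => hn (by simp [h])⟩
  obtain ⟨ζ, hζ⟩ := HasEnoughRootsOfUnity.exists_primitiveRoot k n
  refine ⟨(MulEquiv.ofBijective (restrictRootsOfUnity φ n) ⟨fun a b h => ?_, fun z => ?_⟩).symm⟩
  · refine Subtype.ext (Units.ext (φ.injective ?_))
    exact congrArg (fun w : rootsOfUnity n R => ((w : Rˣ) : R)) h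
  · have hz : (((z : Rˣ) : R)) ^ n = 1 := by
      rw [← Units.val_pow_eq_pow_val, (mem_rootsOfUnity n _).1 z.2, Units.val_one]
    obtain ⟨i, -, hi⟩ := (hζ.map_of_injective φ.injective).eq_pow_of_pow_eq_one hz
    refine ⟨hζ.toRootsOfUnity ^ i, Subtype.ext (Units.ext ?_)⟩
    rw [restrictRootsOfUnity_coe_apply]
    simpa [IsPrimitiveRoot.val_toRootsOfUnity_coe, map_pow] using hi

theorem isTorsion_mu {n : ℕ} (hn : n ≠ 0) : EtCoh.IsTorsion (EtCoh.mu X n) := by
  intro U s x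
  refine ⟨U, 𝟙 U, ⟨x, rfl⟩, isOfFinAddOrder_iff_nsmul_eq_zero.2 ⟨n, Nat.pos_of_ne_zero hn, ?_⟩⟩
  have h0 : n • 𝟙 (EtCoh.mu X n) = 0 := by
    rw [← cancel_mono (kernel.ι (EtCoh.powMap X n)), zero_comp, Preadditive.nsmul_comp, Category.id_comp]
    have := kernel.condition (EtCoh.powMap X n)
    rwa [EtCoh.powMap, Preadditive.comp_nsmul, Category.comp_id] at this
  let e : (EtCoh.mu X n ⟶ EtCoh.mu X n) →+
      ((EtCoh.mu X n).obj.obj (op U) ⟶ (EtCoh.mu X n).obj.obj (op U)) :=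
    AddMonoidHom.mk' (fun φ => φ.hom.app (op U)) (fun _ _ => rfl)
  have h1 := map_nsmul e n (𝟙 (EtCoh.mu X n))
  rw [h0, map_zero] at h1
  exact (ConcreteCategory.congr_hom h1 ((EtCoh.mu X n).obj.map (𝟙 U).op s)).symm

variable {k : Type u} [Field k] [IsAlgClosed k] [X.Over (Spec (CommRingCat.of k))] [IsIntegral X]
  [IsProper (X ↘ Spec (CommRingCat.of k))] [Smooth (X ↘ Spec (CommRingCat.of k))]

include k in
/-- `H¹(U, G_m)` of a punctured curve is divisible -/
theorem divisible_H1_Gm (hdim : topologicalKrullDim X = 1) (U : X.Opens) (hU : ((U : Set X)ᶜ).Finite)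
    {p : X} (hpU : p ∉ U) {n : ℕ} (hn : n ≠ 0) (y : EtCoh.H (U : Scheme.{u}) (EtCoh.Gm U) 1) :
    ∃ z, n • z = y := by
  letI : PicGrp.Law (U : Scheme.{u}) := H23.PicMul.law _
  obtain ⟨E⟩ := EtGmH1.nonempty_addEquiv (U : Scheme.{u})
  obtain ⟨d, hd, hdc⟩ := exists_pow_eq (k := k) hdim U hU hpU hn (E.symm y).toMul.2
  have hpow : ∀ (c : PicLoc.PicSet (U : Scheme.{u})) (m : ℕ), (c ^ m).1 = c.1 ^ m := fun c m => by
    induction m with
    | zero => rw [pow_zero, pow_zero]; rfl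
    | succ m ih => rw [pow_succ, pow_succ, ← ih]; rfl
  let c : Additive (PicLoc.PicSet (U : Scheme.{u})) := Additive.ofMul ⟨d, hd⟩
  refine ⟨E c, ?_⟩
  have h : n • c = E.symm y :=
    Additive.toMul.injective (Subtype.ext ((hpow ⟨d, hd⟩ n).trans hdc))
  rw [← map_nsmul, h, AddEquiv.apply_symm_apply]

include k in
/-- `H^q(U, μ_n)` vanishes for `q ≥ 2` -/
theorem subsingleton_H_mu (hdim : topologicalKrullDim X = 1) (U : X.Opens) (hU : ((U : Set X)ᶜ).Finite)
    {p : X} (hpU : p ∉ U) {n : ℕ} (hn : (n : k) ≠ 0) (q : ℕ) (hq : 2 ≤ q) :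
    Subsingleton (EtCoh.H (U : Scheme.{u}) (EtCoh.mu U n) q) := by
  haveI := CurveCohLib.isNoetherian_of_proper (k := k) (X := X)
  have hn0 : n ≠ 0 := fun h => hn (by simp [h])
  let f : (U : Scheme.{u}) ⟶ Spec (CommRingCat.of k) := U.ι ≫ X ↘ Spec (CommRingCat.of k)
  have hdimU : topologicalKrullDim (U : Scheme.{u}) ≤ 1 :=
    (U.ι.isOpenEmbedding.isInducing.topologicalKrullDim_le).trans hdim.le
  rcases eq_or_lt_of_le hq with rfl | hq'
  · obtain ⟨δ, hs, hk⟩ := exists_boundary (isUnit_natCast_Γ f hn)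
      (CurveCd.subsingleton_H_Gm_curve k (U : Scheme.{u}) f hdimU 2 le_rfl)
    refine subsingleton_of_forall_eq 0 fun x => ?_
    obtain ⟨y, rfl⟩ := hs x
    exact (hk y).2 (divisible_H1_Gm (k := k) hdim U hU hpU hn0 y)
  · exact CurveCd.cohDimLE_two k (U : Scheme.{u}) f hdimU _ (isTorsion_mu hn0) q hq'

include k in
/-- `H⁰(U, μ_n)` is the roots of unity of the field -/
theorem nonempty_H0_mu_open (hdim : topologicalKrullDim X = 1) (U : X.Opens) (hU : ((U : Set X)ᶜ).Finite)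
    {n : ℕ} (hn : (n : k) ≠ 0) :
    Nonempty (EtCoh.H (U : Scheme.{u}) (EtCoh.mu U n) 0 ≃+ Additive ↥(rootsOfUnity n k)) := by
  haveI : Nonempty (U : Scheme.{u}) := ⟨⟨genericPoint X, genericPoint_mem (k := k) hdim U hU⟩⟩
  haveI : IsIntegral (U : Scheme.{u}) := isIntegral_of_isOpenImmersion U.ι
  let φ := ((Scheme.ΓSpecIso (CommRingCat.of k)).inv ≫ (U.ι ≫ X ↘ Spec (CommRingCat.of k)).appTop).hom
  obtain ⟨e⟩ := nonempty_H0_mu (X := (U : Scheme.{u})) n
  obtain ⟨r⟩ := nonempty_rootsOfUnity_equiv φ hn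
  exact ⟨((e.trans (torCongr (EtMu5.h0Gm (U : Scheme.{u})) n)).trans (torUnitsEquiv _ n)).trans r.toAdditive⟩

end Groth.Agent.CurveAff

end
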