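import Groth.Agent.PicCurve.Torsion
import Groth.Agent.PicCurve.Kummer
import Groth.Agent.FppfPic.ExtendRegular
import Groth.Agent.Lib.CurvePoint
import Groth.Agent.CDiv6.Basic
import Groth.Agent.Ref1X.Big

/-!
# Divisibility of the Picard group of a punctured smooth proper curve
-/

noncomputable section

set_option autoImplicit false
set_option linter.style.haveILetI false
set_option linter.unusedSectionVars false
set_option backward.isDefEq.respectTransparency false
set_option backward.isDefEq.respectTransparency.types false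
set_option maxHeartbeats 1000000
set_option synthInstance.maxHeartbeats 400000
attribute [-instance] CategoryTheory.catToReflQuiver

universe u

open CategoryTheory CategoryTheory.Limits AlgebraicGeometry TopologicalSpace Opposite
  MonoidalCategory CartesianMonoidalCategory
open scoped MonObj
open Groth.Agent.H23.PicMul

namespace Groth.Agent.CurveAff

open Groth.Agent.PicCurve
open AVTorsLib (base)

variable {X : Scheme.{u}}

theorem pullCl_pow {Y : Scheme.{u}} (g : Y ⟶ X) (c : PicF.Cl X) (n : ℕ) :
    PicF.pullCl g (c ^ n) = PicF.pullCl g c ^ n := by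
  induction n with
  | zero => rw [pow_zero, pow_zero, pullCl_one]
  | succ n ih => rw [pow_succ, pow_succ, pullCl_mul, ih]

theorem isInvertibleCl_pow {c : PicF.Cl X} (hc : PicF.IsInvertibleCl c) (n : ℕ) :
    PicF.IsInvertibleCl (c ^ n) := by
  induction n with
  | zero => rw [pow_zero]; exact (PicLoc.unitPicSet X).2
  | succ n ih => rw [pow_succ]; exact isInvertibleCl_mul ih hc

variable {k : Type u} [Field k] [IsAlgClosed k] [X.Over (Spec (CommRingCat.of k))] [IsIntegral X]
  [IsProper (X ↘ Spec (CommRingCat.of k))] [Smooth (X ↘ Spec (CommRingCat.of k))]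

include k in
/-- the ideal of a point is trivial away from the point -/
theorem pullCl_ptMod (U : X.Opens) {p : X} (hp : IsClosed ({p} : Set X)) (hpU : p ∉ U) :
    PicF.pullCl U.ι (PicF.cl (CurvePoint.ptMod p hp)) = 1 := by
  let D := CurvePoint.ptIdeal p hp
  have hS := CurvePoint.shortExact_pt p hp
  have hbij : ∀ x ∈ U, Function.Bijective (RefHull.stalkMapₗ (ClSub.idealModι D) x) := by
    intro x hx
    have hT := hS.map_of_exact (DerSch.stalkFunctor X x)
    haveI := hT.mono_f
    refine ⟨(ModuleCat.mono_iff_injective ((DerSch.stalkFunctor X x).map (ClSub.idealModι D))).1 hT.mono_f,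
      fun m => ?_⟩
    haveI : Subsingleton ((ClSub.quotMod D).presheaf.stalk x) :=
      CurvePoint.subsingleton_stalk_of_ne p hp (fun h => hpU (h ▸ hx))
    exact ((ShortComplex.moduleCat_exact_iff _).1 hT.exact) m (Subsingleton.elim (α := (ClSub.quotMod D).presheaf.stalk x) _ _)
  haveI := Ref1X.isIso_restrict_of_stalk (ClSub.idealModι D) hbij
  have hiso : Nonempty ((Scheme.Modules.pullback U.ι).obj (CurvePoint.ptMod p hp) ≅
      (Scheme.Modules.pullback U.ι).obj (Coh.structureModule X)) :=
    ⟨((Scheme.Modules.restrictFunctorIsoPullback U.ι).app _).symm ≪≫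
      asIso ((Scheme.Modules.restrictFunctor U.ι).map (ClSub.idealModι D)) ≪≫
      (Scheme.Modules.restrictFunctorIsoPullback U.ι).app _⟩
  rw [← pullCl_one U.ι, H23.PicMul.one_def]
  exact (PicGrp.cl_eq_cl_iff _ _).2 hiso

include k in
/-- a finite complement misses the generic point -/
theorem genericPoint_mem (hdim : topologicalKrullDim X = 1) (U : X.Opens) (hU : ((U : Set X)ᶜ).Finite) :
    genericPoint X ∈ U := by
  haveI := CurveCohLib.isNoetherian_of_proper (k := k) (X := X)
  have hne : (U : Set X).Nonempty := by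
    by_contra h
    rw [Set.not_nonempty_iff_eq_empty] at h
    rw [h, Set.compl_empty] at hU
    obtain ⟨S, hS, -⟩ := CurveSection.exists_closed_finset k hdim (hU.toFinset.card + 1)
    have := Finset.card_le_card (fun a _ => hU.mem_toFinset.2 (Set.mem_univ a) : S ⊆ hU.toFinset)
    omega
  exact (genericPoint_spec X).mem_open_set_iff U.2 |>.2 (by simpa using hne)

omit [IsAlgClosed k] in
include k in
theorem regular_stalk (x : X) : IsRegularLocalRing (X.presheaf.stalk x) := by
  haveI := FppfPic.regular_spec (R := k) ((X ↘ Spec (CommRingCat.of k)) x)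
  exact BlowExc.regular_stalk_of_smooth (X ↘ Spec (CommRingCat.of k)) x

include k in
/-- every invertible class on a punctured curve is a power -/
theorem exists_pow_eq (hdim : topologicalKrullDim X = 1) (U : X.Opens) (hU : ((U : Set X)ᶜ).Finite)
    {p : X} (hpU : p ∉ U) {n : ℕ} (hn : n ≠ 0) {c : PicF.Cl (U : Scheme.{u})} (hc : PicF.IsInvertibleCl c) :
    ∃ d : PicF.Cl (U : Scheme.{u}), PicF.IsInvertibleCl d ∧ d ^ n = c := by
  haveI := CurveCohLib.isNoetherian_of_proper (k := k) (X := X)
  have hgen := genericPoint_mem (k := k) hdim U hU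
  haveI : Nonempty (U : Scheme.{u}) := ⟨⟨genericPoint X, hgen⟩⟩
  have hp : IsClosed ({p} : Set X) := CDiv6.isClosed_singleton hdim.le (fun h => hpU (h ▸ hgen))
  let f := X ↘ Spec (CommRingCat.of k)
  haveI : IsProper f := ‹_›
  haveI : Smooth f := ‹_›
  obtain ⟨σ, hσ, -⟩ := GrpSchLib.exists_point_of_smooth f ⊤ (x := Classical.arbitrary X) trivial
  haveI : GeometricallyIntegral f := S7791.result f σ hσ
  haveI : SmoothOfRelativeDimension 1 f := HilbCurve.smoothOfRelativeDimension_one f hdim
  obtain ⟨J, ξ, hpr, hsm, hgi, hξ, huniv⟩ := exists_jacobian_field f hdim σ hσ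
  haveI := hpr
  haveI := hsm
  haveI := hgi
  haveI : Subsingleton (Spec (CommRingCat.of k)) := inferInstanceAs (Subsingleton (PrimeSpectrum k))
  haveI : IrreducibleSpace J.left := GeometricallyIrreducible.irreducibleSpace_of_subsingleton J.hom
  letI := jacGrpObj f hdim σ hσ ξ hξ huniv
  haveI : GeometricallyIntegral J.hom := S7791.result J.hom η[J].left (Over.w η[J])
  haveI : IsCommMonObj J := jac_isCommMonObj f hdim σ hσ ξ hξ huniv
  obtain ⟨Θ, -, h2, h3, -, h5⟩ := exists_pointsCl f hdim σ hσ ξ hξ huniv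
  let P : PicF.Cl X := PicF.cl (CurvePoint.ptMod p hp)
  have hI := CurvePoint.isInvertible_ptMod p hp k hdim
  have hP : PicF.IsInvertibleCl P := ⟨_, rfl, hI⟩
  have hdP : degX f P = -1 := (degX_cl hdim.le hI).trans (CurvePoint.deg_ptMod p hp k)
  have hdQ : degX f (invCl hP) = 1 := by
    have h := degX_mul f hdim hP (isInvertibleCl_invCl hP)
    rw [mul_invCl, degX_one, hdP] at h
    omega
  have hUP : PicF.pullCl U.ι P = 1 := pullCl_ptMod (k := k) U hp hpU
  have hUQ : PicF.pullCl U.ι (invCl hP) = 1 := by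
    have h := congrArg (PicF.pullCl U.ι) (mul_invCl hP)
    rwa [pullCl_mul, hUP, one_mul, pullCl_one] at h
  obtain ⟨C, hC, hCc⟩ := FppfPic.exists_pullback_open (regular_stalk (k := k)) U.ι hc
  obtain ⟨C', hC', hd', hCc'⟩ : ∃ C', PicF.IsInvertibleCl C' ∧ degX f C' = 0 ∧ PicF.pullCl U.ι C' = c := by
    rcases Int.eq_nat_or_neg (degX f C) with ⟨m, hm | hm⟩
    · refine ⟨C * P ^ m, isInvertibleCl_mul hC (isInvertibleCl_pow hP m), ?_, ?_⟩
      · rw [degX_mul f hdim hC (isInvertibleCl_pow hP m), degX_pow f hdim hP, hdP, hm]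
        ring
      · rw [pullCl_mul, pullCl_pow, hUP, one_pow, mul_one, hCc]
    · refine ⟨C * invCl hP ^ m, isInvertibleCl_mul hC (isInvertibleCl_pow (isInvertibleCl_invCl hP) m), ?_, ?_⟩
      · rw [degX_mul f hdim hC (isInvertibleCl_pow (isInvertibleCl_invCl hP) m),
          degX_pow f hdim (isInvertibleCl_invCl hP), hdQ, hm]
        ring
      · rw [pullCl_mul, pullCl_pow, hUQ, one_pow, mul_one, hCc]
  obtain ⟨a, ha⟩ := h5 C' hC' hd'
  obtain ⟨b, hb⟩ := AVTorsLib.divisible (A := J) n (Nat.pos_of_ne_zero hn) (Additive.ofMul a)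
  refine ⟨PicF.pullCl U.ι (Θ b.toMul), FppfPic.isInvertibleCl_pull _ (h3 _), ?_⟩
  rw [← pullCl_pow, ← pointsCl_pow h2 h3, ← hCc', ← ha]
  exact congrArg (fun z => PicF.pullCl U.ι (Θ z)) (congrArg Additive.toMul hb)

end Groth.Agent.CurveAff

end
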