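import Groth.Agent.CurveAff.StalkOne
import Groth.Agent.CurveCd.TorsionCd
import Groth.Agent.EtCdFun.Fibre
import Groth.Agent.FieldCd.DimOne
import Groth.Agent.EtLim5.PushTorsion
import Groth.Agent.H9Transfer.TorsionSheaf

/-!
# Second direct images of torsion sheaves along open immersions of curves vanish
-/

set_option autoImplicit false
set_option linter.style.haveILetI false
set_option linter.unusedSectionVars false
set_option backward.isDefEq.respectTransparency false
set_option backward.isDefEq.respectTransparency.types false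
set_option maxHeartbeats 1600000
set_option synthInstance.maxHeartbeats 200000

universe u

open CategoryTheory CategoryTheory.Limits AlgebraicGeometry Opposite Abelian IsLocalRing TopologicalSpace

noncomputable section

namespace Groth.Agent.CurveAff

open Groth.Agent.EtFound Groth.Agent.CurveFin

attribute [local instance] EtFound.pull_preservesFiniteLimits

/-- a noetherian space with closed points is finite -/
theorem finite_of_isClosed_points {P : Scheme.{u}} [NoetherianSpace P]
    (h : ∀ t : P, IsClosed ({t} : Set P)) : Finite P := by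
  obtain ⟨S, hS, hc, hirr, e⟩ := NoetherianSpace.exists_finite_set_isClosed_irreducible
    (isClosed_univ : IsClosed (Set.univ : Set P))
  rw [← Set.finite_univ_iff, e]
  refine hS.sUnion fun Z hZ => ?_
  have hg := (hirr Z hZ).isGenericPoint_genericPoint_closure
  rw [(hc Z hZ).closure_eq] at hg
  rw [← hg.def, (h _).closure_eq]
  exact Set.finite_singleton _

/-- second and higher direct images of torsion sheaves along open immersions of curves vanish -/
theorem isZero_Rpush_two (k : Type u) [Field k] [IsSepClosed k] {U Y : Scheme.{u}}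
    (s : Y ⟶ Spec (CommRingCat.of k)) [LocallyOfFiniteType s] [QuasiCompact s]
    (hdim : topologicalKrullDim Y ≤ 1) (j : U ⟶ Y) [IsOpenImmersion j] [QuasiCompact j]
    (G : EtCoh.Ab U) (hG : EtCoh.IsTorsion G) (b : ℕ) (hb : 2 ≤ b) : IsZero ((EtCoh.Rpush j b).obj G) := by
  haveI : IsLocallyNoetherian Y := LocallyOfFiniteType.isLocallyNoetherian s
  haveI : CompactSpace Y := QuasiCompact.compactSpace_of_compactSpace s
  haveI : IsNoetherian Y := {}
  haveI : QuasiSeparated j := inferInstance
  refine (EtFound.isZero_iff_stalks _).2 fun Ω _ _ ξ => ?_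
  let y := ξ.base (default : Spec (CommRingCat.of Ω))
  obtain ⟨R, _, _, _, _, hR⟩ := BcQCalc.exists_strictHens (Y.presheaf.stalk y)
  haveI := hR
  haveI : HenselianLocalRing R := _root_.Hensel.IsStrictHenselization.henselian (R := Y.presheaf.stalk y)
  haveI : IsSepClosed (ResidueField R) :=
    (_root_.Hensel.IsStrictHenselization.isSepClosure (R := Y.presheaf.stalk y) (S := R)).sep_closed
  let h := Hens2.specOf Y y R
  obtain ⟨e⟩ := RpushStalk.nonempty_stalk_natIso j y R b
  have hgeo : (Hens2.geomPt Y y R).base (default : Spec (CommRingCat.of (ResidueField R))) = y := by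
    show (Spec.map (CommRingCat.ofHom (residue R)) ≫ Hens2.specOf Y y R).base default = y
    rw [Scheme.Hom.comp_apply]
    exact (congrArg (Hens2.specOf Y y R) (EtFound.cpt_base R _)).trans (LocAcycLib.specOf_closedPoint Y y R)
  obtain ⟨se⟩ := nonempty_stalk_addEquiv ((EtCoh.Rpush j b).obj G) ξ (Hens2.geomPt Y y R) hgeo.symm
  let G' := (EtCoh.pull (pullback.fst j h)).obj G
  have hG' : EtCoh.IsTorsion G' := H9Transfer.isTorsion_pull (pullback.fst j h) G hG
  suffices hH : Subsingleton (EtCoh.H (pullback j h) G' b) from
    @AddCommGrpCat.isZero_of_subsingleton _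
      (@Equiv.subsingleton _ _ (se.trans (e.app G).addCommGroupIsoToAddEquiv).toEquiv hH)
  let p : pullback j h ⟶ Spec (CommRingCat.of R) := pullback.snd j h
  haveI : IsOpenImmersion p := inferInstanceAs (IsOpenImmersion (pullback.snd j h))
  have hrange : ∀ z : Spec (CommRingCat.of R), z ∈ Set.range p.base ↔ h z ∈ Set.range j.base := by
    intro z
    rw [Scheme.Pullback.range_snd]
    rfl
  have hclosed : h (closedPoint R) = y := LocAcycLib.specOf_closedPoint Y y R
  by_cases hy : y ∈ Set.range j.base
  · haveI : Surjective p := ⟨fun z => by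
      refine (hrange z).2 ((IsLocalRing.specializes_closedPoint (R := R) z).map h.continuous |>.mem_open
        j.isOpenEmbedding.isOpen_range (hclosed.symm ▸ hy))⟩
    haveI : IsIso p := (isIso_iff_isOpenImmersion_and_surjective _).2 ⟨inferInstance, inferInstance⟩
    haveI := S0073.result R ((EtCoh.pull (inv p)).obj G') b (by omega)
    exact (EtAcycLib.bijective_Hpull_of_isIso (inv p) G' b).1.subsingleton
  haveI : IsNoetherianRing R := (S0540.result (Y.presheaf.stalk y) R).1 inferInstance
  have hdR : topologicalKrullDim (Spec (CommRingCat.of R)) ≤ 1 := by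
    rw [show topologicalKrullDim (Spec (CommRingCat.of R)) = ringKrullDim R from
      PrimeSpectrum.topologicalKrullDim_eq_ringKrullDim R, S0541.result (Y.presheaf.stalk y) R]
    exact (CurveCohLib.ringKrullDim_stalk_le_topologicalKrullDim y).trans hdim
  haveI : NoetherianSpace (Spec (CommRingCat.of R)) := inferInstanceAs (NoetherianSpace (PrimeSpectrum R))
  haveI : NoetherianSpace ↥(pullback j h) := p.isOpenEmbedding.isInducing.noetherianSpace
  have hne : ∀ t, p t ≠ closedPoint R := fun t e' => hy (by
    rw [← hclosed, ← e']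
    exact (hrange (p t)).1 ⟨t, rfl⟩)
  have hmax : ∀ t (z : Spec (CommRingCat.of R)), z ⤳ p t → z = p t := fun t z hz => by
    by_contra hzne
    have hc := (FieldCd.isClosed_of_specializes_of_dim_le_one hdR hz hzne).1
    exact hne t ((IsLocalRing.specializes_closedPoint (R := R) (p t)).mem_closed hc rfl).symm
  have hpts : ∀ t : ↥(pullback j h), IsClosed ({t} : Set ↥(pullback j h)) := fun t => by
    refine closure_eq_iff_isClosed.1 (Set.Subset.antisymm (fun t' ht => ?_) subset_closure)
    have hs : p t ⤳ p t' := (specializes_iff_mem_closure.2 ht).map p.continuous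
    exact (p.isOpenEmbedding.injective (hmax t' (p t) hs)).symm
  haveI : Finite ↥(pullback j h) := finite_of_isClosed_points hpts
  haveI : T1Space ↥(pullback j h) := ⟨hpts⟩
  haveI : DiscreteTopology ↥(pullback j h) := inferInstance
  refine EtCdFun.subsingleton_H_of_discrete G' b fun t => ?_
  let x : Y := h (p t)
  have hxy : x ⤳ y := hclosed ▸ (IsLocalRing.specializes_closedPoint (R := R) (p t)).map h.continuous
  let O := Y.presheaf.stalk y
  let p0 : PrimeSpectrum O := ⟨RingHom.ker (Cyc.specMap y x hxy), RingHom.ker_isPrime _⟩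
  have hp0 : (Y.fromSpecStalk y).base p0 = x := by
    have hd : (Spec.map (CommRingCat.ofHom (Cyc.specMap y x hxy))).base default = p0 :=
      PrimeSpectrum.ext (congrArg (Ideal.comap (Cyc.specMap y x hxy))
        ((Ideal.eq_bot_or_top _).resolve_right (default : Spec (Y.residueField x)).isPrime.ne_top))
    rw [← hd]
    exact (Scheme.Hom.comp_apply _ _ _).symm.trans ((congrArg (fun m : Spec (Y.residueField x) ⟶ Y => m.base default)
      (EtCdFun.specMap_fromSpecStalk hxy)).trans (Scheme.fromSpecResidueField_apply _ _))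
  have hcm : (p t).asIdeal.comap (algebraMap O R) = p0.asIdeal :=
    congrArg PrimeSpectrum.asIdeal ((Y.fromSpecStalk y).isEmbedding.injective
      (show (Y.fromSpecStalk y).base (PrimeSpectrum.comap (algebraMap O R) (p t)) = (Y.fromSpecStalk y).base p0 from
        hp0.symm ▸ rfl))
  have hmin : (p t).asIdeal ∈
      ((RingHom.ker (Cyc.specMap y x hxy)).map (algebraMap O R)).minimalPrimes := by
    refine ⟨⟨(p t).isPrime, Ideal.map_le_iff_le_comap.2 hcm.ge⟩, fun Q hQ hQt => ?_⟩
    have hz := hmax t ⟨Q, hQ.1⟩ ((PrimeSpectrum.le_iff_specializes ⟨Q, hQ.1⟩ (p t)).1 hQt)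
    exact (congrArg PrimeSpectrum.asIdeal hz).ge
  haveI : (p t).asIdeal.IsPrime := (p t).isPrime
  obtain ⟨ε, hε⟩ := EtCdFun.exists_finite_residue p t
  haveI := hε
  let Gt := (EtCoh.pull ((pullback j h).fromSpecResidueField t)).obj G'
  have hGt : EtCoh.IsTorsion Gt := H9Transfer.isTorsion_pull _ G' hG'
  refine (GalCd5.subsingleton_H_push_iff ε Gt b).1 ?_
  refine CurveCd.subsingleton_H_of_torsion b (fun ℓ hℓ H hH => ?_) _ (EtLim5.isTorsion_push ε _ hGt)
  exact FieldCd.cohDimLEAt_of_vanAbove hℓ (FieldCd.vd_frac hxy R (p t).asIdeal hmin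
    (FieldCd.vanAbove_of_cohDimLEAt (CurveCd.cohDimLEAt_residueField_one k s hdim hℓ x))) H hH b (by omega)

end Groth.Agent.CurveAff

end
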